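import Cfsg.Agent.Lib.KThree.TransLinear
import Cfsg.Agent.Lib.Zsigmondy.Basic
import Mathlib.Algebra.Module.ZMod

/-!
# The criterion for an action by automorphisms on an elementary abelian group
-/

set_option autoImplicit false
set_option linter.style.haveILetI false

namespace CfsgLib.KThree

/-- The form of the criterion used for a group of characters. -/
theorem false_of_addAction {p r m : ℕ} [Fact p.Prime] {E A : Type*} [Group E] [Finite E]
    [AddCommGroup A] [Finite A] (hexp : ∀ x : A, p • x = 0) (act : E → A →+ A)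
    (h1 : ∀ x, act 1 x = x) (hmul : ∀ s t x, act (s * t) x = act s (act t x))
    (hfaith : ∀ e, (∀ x, act e x = x) → e = 1) (hp2 : p ≠ 2) (hr : 2 ≤ r)
    (hA : Nat.card A = p ^ r) (hm : 0 < m) (hcard : Nat.card E = (p ^ r - 1) * m ^ 2)
    (htr : ∀ v w : A, v ≠ 0 → w ≠ 0 → ∃ g : E, act g v = w)
    (hconj : ∀ q u : E, q ≠ 1 → u ≠ 1 → IsCyclic (Subgroup.centralizer ({q} : Set E)) →
      IsCyclic (Subgroup.centralizer ({u} : Set E)) → IsConj q u)
    (hnorm : ∀ q : E, (orderOf q).Prime → orderOf q ≠ 2 →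
      Subgroup.centralizer ({q} : Set E) = Subgroup.zpowers q →
      (∀ u ∈ Subgroup.zpowers q, u ≠ 1 → IsConj q u) →
      orderOf q % 4 = 1 ∧ ∃ g : ℕ, Nat.card E = orderOf q * g ^ 2) : False := by
  have hp : p.Prime := Fact.out
  haveI : Module (ZMod p) A := AddCommGroup.zmodModule hexp
  let ρ : E →* Module.End (ZMod p) A :=
    { toFun := fun e => AddMonoidHom.toZModLinearMap p (act e)
      map_one' := LinearMap.ext fun x => h1 x
      map_mul' := fun s t => LinearMap.ext fun x => hmul s t x }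
  have hval : ∀ e x, ρ e x = act e x := fun _ _ => rfl
  have hρ : Function.Injective ρ := (injective_iff_map_eq_one ρ).2 fun e he =>
    hfaith e fun x => by rw [← hval, he, Module.End.one_apply]
  by_cases hex : r = 2 ∧ ∃ a, p + 1 = 2 ^ a
  · obtain ⟨rfl, a, ha⟩ := hex
    exact false_of_mersenne ρ hconj hρ hp2 hA hm hcard htr ha
  · obtain ⟨ℓ, hℓ, hdvd, hprim⟩ := Zsigmondy.exists_primitive_prime_divisor (a := p) (n := r)
      hp.one_lt (by omega) (fun e => hp2 e.1) hex
    exact false_of_primitive ρ hconj hρ hp2 hr hA hm hcard htr hnorm hℓ hdvd hprim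

end CfsgLib.KThree
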