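import Cfsg.Agent.Lib.KThree.Lebesgue
import Mathlib.Algebra.GCDMonoid.Nat
import Mathlib.FieldTheory.Finite.Basic

/-!
# The degree forced by a primitive prime divisor
-/

set_option autoImplicit false

namespace CfsgLib.KThree

theorem exists_eq_sq_of_mul_eq_sq {a b c : ℕ} (hab : Nat.Coprime a b) (h : a * b = c ^ 2) :
    ∃ d, a = d ^ 2 :=
  exists_eq_pow_of_mul_eq_pow (Nat.isUnit_iff.2 hab) h

/-- If `ℓ = r + 1 ≡ 1 (mod 4)` is a primitive prime divisor of `p ^ r - 1` and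
`(p ^ r - 1) m ^ 2 = ℓ g ^ 2`, then `r = 4`. -/
theorem eq_four {p r ℓ m g : ℕ} (hp : p.Prime) (hp2 : p ≠ 2) (hℓ : ℓ.Prime) (hℓr : ℓ = r + 1)
    (h4 : ℓ % 4 = 1) (hdvd : ℓ ∣ p ^ r - 1)
    (hprim : ∀ k : ℕ, 0 < k → k < r → ¬ ℓ ∣ p ^ k - 1) (hm : 0 < m)
    (heq : (p ^ r - 1) * m ^ 2 = ℓ * g ^ 2) : r = 4 := by
  have hℓ2 := hℓ.two_le
  obtain ⟨j, hj⟩ : ∃ j, r = 4 * j := ⟨r / 4, by omega⟩
  have hj0 : j ≠ 0 := by omega
  obtain ⟨u, hu⟩ : ∃ u, p ^ j = 2 * u + 1 := (hp.odd_of_ne_two hp2).pow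
  have hP : 1 < p ^ j := Nat.one_lt_pow hj0 hp.one_lt
  set A := 2 * u * (u + 1) with hA
  have hh : p ^ (2 * j) = 2 * A + 1 := by rw [two_mul j, pow_add, hu, hA]; ring
  have hr1 : p ^ r - 1 = 4 * (A * (A + 1)) := by
    rw [hj, show 4 * j = 2 * j + 2 * j from by ring, pow_add, hh,
      show (2 * A + 1) * (2 * A + 1) = 4 * (A * (A + 1)) + 1 from by ring, Nat.add_sub_cancel]
  have hnA : ¬ ℓ ∣ A := by
    intro h
    refine hprim (2 * j) (by omega) (by omega) ?_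
    rw [hh, Nat.add_sub_cancel]
    exact h.mul_left 2
  have hB : ℓ ∣ A + 1 := by
    rw [hr1] at hdvd
    rcases hℓ.dvd_mul.1 hdvd with h | h
    · exact absurd (Nat.le_of_dvd (by norm_num) h) (by omega)
    · exact (hℓ.dvd_mul.1 h).resolve_left hnA
  obtain ⟨C, hC⟩ := hB
  have h2 : A * C * (2 * m) ^ 2 = g ^ 2 := by
    refine Nat.eq_of_mul_eq_mul_left hℓ.pos ?_
    rw [← heq, hr1, hC]
    ring
  obtain ⟨g', rfl⟩ : 2 * m ∣ g :=
    (Nat.pow_dvd_pow_iff two_ne_zero).1 ⟨A * C, by rw [← h2, mul_comm]⟩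
  have h3 : A * C = g' ^ 2 :=
    Nat.eq_of_mul_eq_mul_right (pow_pos (show 0 < 2 * m by omega) 2) (by rw [h2]; ring)
  have hcop : Nat.Coprime A C :=
    Nat.Coprime.coprime_dvd_right (show C ∣ A + 1 from ⟨ℓ, by rw [hC, mul_comm]⟩)
      (by rw [add_comm]; exact Nat.coprime_add_self_right.2 (Nat.coprime_one_right A))
  obtain ⟨a, ha⟩ := exists_eq_sq_of_mul_eq_sq hcop h3
  rw [hA] at ha
  rcases Nat.even_or_odd u with hue | huo
  · -- `p ^ j = c ^ 2 + 1`
    have hc : Nat.Coprime (2 * u) (u + 1) :=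
      Nat.Coprime.mul_left (Nat.coprime_two_left.2 hue.add_one)
        (by rw [add_comm]; exact Nat.coprime_add_self_right.2 (Nat.coprime_one_right u))
    obtain ⟨c, hc2⟩ := exists_eq_sq_of_mul_eq_sq hc ha
    have hpj : c ^ 2 + 1 = p ^ j := by rw [hu, hc2]
    have hc0 : c ≠ 0 := by rintro rfl; rw [← hpj] at hP; simp at hP
    have hce : Even c := (Nat.even_pow' two_ne_zero).1 (hc2 ▸ even_two_mul u)
    rcases Nat.even_or_odd j with ⟨i, hi⟩ | hjo
    · exfalso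
      rw [hi, pow_add] at hpj
      rcases Nat.lt_or_ge c (p ^ i) with h | h
      · nlinarith [Nat.pos_of_ne_zero hc0, Nat.mul_le_mul (show c + 1 ≤ p ^ i by omega)
          (show c + 1 ≤ p ^ i by omega)]
      · nlinarith [Nat.mul_le_mul h h]
    · by_contra hne
      exact sq_add_one_ne_pow hce hc0 hjo (by obtain ⟨i, hi⟩ := hjo; omega) hpj
  · -- `p ^ j = 3`
    have hc : Nat.Coprime u (2 * (u + 1)) :=
      Nat.Coprime.mul_right (Nat.coprime_two_right.2 huo)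
        (by rw [add_comm]; exact Nat.coprime_add_self_right.2 (Nat.coprime_one_right u))
    have hc' : 2 * (u + 1) * u = a ^ 2 := by rw [← ha]; ring
    obtain ⟨e, he⟩ := exists_eq_sq_of_mul_eq_sq hc.symm hc'
    have hpj : p ^ j + 1 = e ^ 2 := by rw [hu, ← he]; ring
    obtain ⟨f, rfl⟩ : ∃ f, e = f + 1 := ⟨e - 1, by
      have : e ≠ 0 := by rintro rfl; simp at hpj
      omega⟩
    have hprod : p ^ j = f * (f + 2) := by nlinarith
    obtain ⟨i, -, hi⟩ := (Nat.dvd_prime_pow hp).1 ⟨f + 2, hprod⟩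
    obtain ⟨i', -, hi'⟩ := (Nat.dvd_prime_pow hp).1 (⟨f, by rw [hprod]; ring⟩ : f + 2 ∣ p ^ j)
    rcases Nat.eq_zero_or_pos i with hz | hz
    · subst hz
      simp at hi
      subst hi
      norm_num at hprod
      have hp3 : p = 3 := ((Nat.prime_dvd_prime_iff_eq hp Nat.prime_three).1
        (hprod ▸ dvd_pow_self p hj0))
      subst hp3
      have := Nat.pow_eq_self_iff (show 1 < 3 by norm_num) |>.1 hprod
      omega
    · exfalso
      have hz' : 0 < i' := by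
        rcases Nat.eq_zero_or_pos i' with h | h
        · rw [h, pow_zero] at hi'; omega
        · exact h
      have hd1 : p ∣ f + 2 := hi' ▸ dvd_pow_self p hz'.ne'
      have hd2 : p ∣ f := hi ▸ dvd_pow_self p hz.ne'
      exact hp2 ((Nat.prime_dvd_prime_iff_eq hp Nat.prime_two).1 ((Nat.dvd_add_right hd2).1 hd1))

end CfsgLib.KThree
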