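import Cfsg.Agent.Lib.CharDeep.Gallagher
import Cfsg.Agent.Lib.CharDeep.Extend
import Cfsg.Agent.Lib.Char.Induced
import Cfsg.Agent.Lib.Char.Clifford
import Mathlib.GroupTheory.SpecificGroups.Cyclic

/-!
# Two characters over an invariant character: fusion of cyclic centralisers in the quotient
-/

set_option autoImplicit false
set_option linter.style.haveILetI false
set_option linter.unusedSectionVars false
set_option maxHeartbeats 1000000
set_option synthInstance.maxHeartbeats 400000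

namespace CfsgLib.KThree

open Cfsg CfsgLib CfsgLib.CharTwist
open scoped ComplexConjugate

universe u

variable {X : Type u} [Group X] [Fintype X] (L : Subgroup X) [L.Normal]

/-- The preimage of the centraliser. -/
def centPre (q : X ⧸ L) : Subgroup X :=
  (Subgroup.centralizer ({q} : Set (X ⧸ L))).comap (QuotientGroup.mk' L)

theorem mem_centPre {q : X ⧸ L} {x : X} :
    x ∈ centPre L q ↔ (x : X ⧸ L) * q = q * (x : X ⧸ L) := by
  rw [centPre, Subgroup.mem_comap, Subgroup.mem_centralizer_singleton_iff]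
  rfl

theorem le_centPre (q : X ⧸ L) : L ≤ centPre L q := fun z hz => by
  rw [mem_centPre, (QuotientGroup.eq_one_iff z).2 hz, one_mul, mul_one]

/-- The quotient of the preimage. -/
noncomputable def centEquiv (q : X ⧸ L) :
    centPre L q ⧸ L.subgroupOf (centPre L q) ≃* Subgroup.centralizer ({q} : Set (X ⧸ L)) :=
  MulEquiv.ofBijective
    (QuotientGroup.lift (L.subgroupOf (centPre L q))
      (((QuotientGroup.mk' L).comp (centPre L q).subtype).codRestrict
        (Subgroup.centralizer ({q} : Set (X ⧸ L))) fun k => k.2)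
      fun k hk => MonoidHom.mem_ker.2 (Subtype.ext ((QuotientGroup.eq_one_iff (k : X)).2 hk)))
    ⟨(injective_iff_map_eq_one _).2 fun r hr => by
        obtain ⟨k, rfl⟩ := QuotientGroup.mk_surjective r
        exact (QuotientGroup.eq_one_iff k).2
          ((QuotientGroup.eq_one_iff (k : X)).1 (congrArg Subtype.val hr)),
      fun c => by
        obtain ⟨x, hx⟩ := QuotientGroup.mk_surjective c.1
        have hmem : x ∈ centPre L q := by
          rw [centPre, Subgroup.mem_comap, QuotientGroup.mk'_apply, hx]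
          exact c.2
        exact ⟨((⟨x, hmem⟩ : centPre L q) : centPre L q ⧸ L.subgroupOf (centPre L q)),
          Subtype.ext hx⟩⟩


theorem centEquiv_mk (q : X ⧸ L) (k : centPre L q) :
    (centEquiv L q (k : centPre L q ⧸ L.subgroupOf (centPre L q)) : X ⧸ L) = ((k : X) : X ⧸ L) :=
  rfl

theorem mk_eq_mk_iff (q : X ⧸ L) (k l : centPre L q) :
    (k : centPre L q ⧸ L.subgroupOf (centPre L q)) = l ↔ ((k : X) : X ⧸ L) = ((l : X) : X ⧸ L) := by
  rw [← centEquiv_mk, ← centEquiv_mk, ← Subtype.ext_iff, (centEquiv L q).injective.eq_iff]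

variable [Fintype L] {θ : L → ℂ}

/-- The function supported on a coset. -/
noncomputable def cosetFun (q : X ⧸ L) (η : centPre L q → ℂ) : X → ℂ :=
  Cfsg.indFun (centPre L q) fun k => open Classical in if ((k : X) : X ⧸ L) = q then η k else 0

theorem cosetFun_apply_coset (q : X ⧸ L) {η : centPre L q → ℂ}
    (hη : IsClassFunction (centPre L q) η) (k : centPre L q) (hk : ((k : X) : X ⧸ L) = q) :
    cosetFun L q η (k : X) = η k := by
  classical
  haveI := Fintype.ofFinite (centPre L q)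
  rw [cosetFun, Char.indFun_apply]
  have h : ∀ x : X, Cfsg.extendByZero (centPre L q)
      (fun k => if ((k : X) : X ⧸ L) = q then η k else 0) (x⁻¹ * k * x) =
      if x ∈ centPre L q then η k else 0 := by
    intro x
    by_cases hx : x⁻¹ * (k : X) * x ∈ centPre L q
    · rw [Char.extendByZero_apply_mem _ _ hx]
      have hiff : ((x⁻¹ * (k : X) * x : X) : X ⧸ L) = q ↔ x ∈ centPre L q := by
        rw [QuotientGroup.mk_mul, QuotientGroup.mk_mul, QuotientGroup.mk_inv, hk, mem_centPre,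
          mul_assoc, inv_mul_eq_iff_eq_mul]
        exact eq_comm
      by_cases hxK : x ∈ centPre L q
      · simp only [if_pos hxK, hiff.2 hxK, if_true]
        have h1 := hη k (⟨x, hxK⟩ : centPre L q)⁻¹
        rw [inv_inv] at h1
        exact h1
      · simp only [if_neg hxK, if_neg fun h => hxK (hiff.1 h)]
    · rw [Char.extendByZero_of_notMem _ _ hx, if_neg]
      intro hxK
      exact hx (Subgroup.mul_mem _ (Subgroup.mul_mem _ (Subgroup.inv_mem _ hxK) k.2) hxK)
  rw [Finset.sum_congr rfl fun x _ => h x, Finset.sum_ite, Finset.sum_const_zero, add_zero,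
    Finset.sum_const, nsmul_eq_mul, ← Fintype.card_subtype, ← Nat.card_eq_fintype_card,
    inv_mul_cancel_left₀ (Nat.cast_ne_zero.2 Nat.card_pos.ne')]

theorem cosetFun_eq_zero (q : X ⧸ L) (η : centPre L q → ℂ) {x : X}
    (hx : ¬ IsConj q (x : X ⧸ L)) : cosetFun L q η x = 0 := by
  classical
  rw [cosetFun, Char.indFun_apply, Finset.sum_eq_zero, mul_zero]
  intro g _
  by_cases hg : g⁻¹ * x * g ∈ centPre L q
  · rw [Char.extendByZero_apply_mem _ _ hg, if_neg]
    intro h
    refine hx (isConj_iff.2 ⟨(g : X ⧸ L), ?_⟩)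
    rw [← h]
    simp [mul_assoc]
  · exact Char.extendByZero_of_notMem _ _ hg

section Over

variable (hθ : IsIrrCharacter L θ) (q : X ⧸ L) {η : centPre L q → ℂ}
  (hη : IsIrrCharacter (centPre L q) η)
  (hres : ∀ (k : centPre L q) (hk : (k : X) ∈ L), η k = θ ⟨k, hk⟩)

include hθ hη hres

theorem res_irr [Fintype (L.subgroupOf (centPre L q))] :
    IsIrrCharacter (L.subgroupOf (centPre L q)) (fun n : L.subgroupOf (centPre L q) => η n) := by
  rw [show (fun n : L.subgroupOf (centPre L q) => η n) =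
    θ ∘ Subgroup.subgroupOfEquivOfLe (le_centPre L q) from funext fun n => hres n n.2]
  exact CharTwist.isIrrCharacter_comp_equiv hθ _

/-- The coset averages of `χ η̄` in terms of the multiplicities. -/
theorem classInner_avg [Fintype (centPre L q)] [Fintype (L.subgroupOf (centPre L q))]
    [Fintype (centPre L q ⧸ L.subgroupOf (centPre L q))] (f : centPre L q → ℂ)
    (β : centPre L q ⧸ L.subgroupOf (centPre L q) → ℂ) :
    classInner (CharDeep.Gal.cosetAvg (L.subgroupOf (centPre L q)) fun k => f k * conj (η k)) β =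
      classInner f ((β ∘ QuotientGroup.mk' (L.subgroupOf (centPre L q))) * η) := by
  rw [CharDeep.Gal.classInner_cosetAvg]
  simp only [classInner, Pi.mul_apply, map_mul]
  congr 1
  exact Finset.sum_congr rfl fun k _ => by ring

/-- A character not over `θ` is orthogonal to the extensions on every coset. -/
theorem avg_eq_zero [Fintype (centPre L q)] [Fintype (L.subgroupOf (centPre L q))]
    (χ : IrrCharacter X) (hχ : classInner (fun n : L => (χ : X → ℂ) n) θ = 0) (k : centPre L q) :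
    ∑ n : L.subgroupOf (centPre L q), (χ : X → ℂ) ((n : centPre L q) * k : centPre L q) *
      conj (η ((n : centPre L q) * k)) = 0 := by
  classical
  let _ := Fintype.ofFinite ((centPre L q) ⧸ (L.subgroupOf (centPre L q)))
  obtain ⟨h1, -, -⟩ := CharDeep.Gal.quotient_bijection (L.subgroupOf (centPre L q)) hη (res_irr L hθ q hη hres)
  have hχK := Clifford.isCharacter_res (Char.IsIrrCharacter.isCharacter χ.2) (centPre L q)
  have hcl : IsClassFunction (centPre L q) fun k => (χ : X → ℂ) k * conj (η k) := fun a b => by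
    simp only [Char.IsCharacter.isClassFunction hχK a b,
      Char.IsIrrCharacter.isClassFunction hη a b]
  have havg : CharDeep.Gal.cosetAvg (L.subgroupOf (centPre L q)) (fun k => (χ : X → ℂ) k * conj (η k)) = 0 := by
    rw [Char.IsClassFunction.eq_sum_classInner (CharDeep.Gal.isClassFunction_cosetAvg (L.subgroupOf (centPre L q)) hcl)]
    refine Finset.sum_eq_zero fun β _ => ?_
    rw [classInner_avg L hθ q hη hres]
    obtain ⟨hirr, hover⟩ := h1 _ β.2
    obtain ⟨m, hm⟩ := Char.IsCharacter.exists_nat_classInner hχK hirr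
    rw [hm]
    suffices m = 0 by rw [this, Nat.cast_zero, zero_smul]
    obtain ⟨c, hc⟩ := Char.IsCharacter.exists_nat_combination hχK
    choose d hd using fun ξ : IrrCharacter (centPre L q) => Char.IsCharacter.exists_nat_classInner
      (CharTwist.isCharacter_comp (Char.IsIrrCharacter.isCharacter ξ.2)
        (Subgroup.inclusion (le_centPre L q))) hθ
    rw [show (fun n : L => (χ : X → ℂ) n) =
      ∑ ξ : IrrCharacter (centPre L q), (c ξ : ℂ) • ((ξ : (centPre L q) → ℂ) ∘ Subgroup.inclusion (le_centPre L q)) from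
        funext fun n => by
          have := congrFun hc (Subgroup.inclusion (le_centPre L q) n)
          simp only [Finset.sum_apply, Pi.smul_apply, smul_eq_mul, Function.comp_apply] at this ⊢
          exact this, Char.classInner_sum_left] at hχ
    simp only [Char.classInner_smul_left, hd] at hχ
    norm_cast at hχ
    have h4 := (Finset.sum_eq_zero_iff.1 hχ) ⟨_, hirr⟩ (Finset.mem_univ _)
    rcases Nat.mul_eq_zero.1 h4 with h4 | h4
    · have h5 := hm
      rw [hc, Char.classInner_sum_smul_irr (fun ξ => (c ξ : ℂ)) ⟨_, hirr⟩] at h5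
      rw [h4, Nat.cast_zero] at h5
      exact_mod_cast h5.symm
    · exfalso
      have h5 := hd ⟨_, hirr⟩
      rw [h4, Nat.cast_zero] at h5
      refine Char.IsIrrCharacter.apply_one_ne_zero β.2 ?_
      rw [← h5, show ((⟨_, hirr⟩ : IrrCharacter (centPre L q)) : (centPre L q) → ℂ) ∘ Subgroup.inclusion (le_centPre L q) =
        (β : (centPre L q) ⧸ (L.subgroupOf (centPre L q)) → ℂ) 1 • θ from funext fun n => ?_, Char.classInner_smul_left,
        Char.classInner_irr_self hθ, mul_one]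
      show (β : (centPre L q) ⧸ (L.subgroupOf (centPre L q)) → ℂ) (QuotientGroup.mk' (L.subgroupOf (centPre L q)) _) * η _ = _
      rw [show QuotientGroup.mk' (L.subgroupOf (centPre L q)) (Subgroup.inclusion (le_centPre L q) n) = 1 from
        (QuotientGroup.eq_one_iff _).2 (Subgroup.mem_subgroupOf.2 n.2), hres _ n.2]
      rfl
  have h2 := congrFun havg (k : (centPre L q) ⧸ (L.subgroupOf (centPre L q)))
  rw [CharDeep.Gal.cosetAvg_mk, Pi.zero_apply] at h2
  exact (mul_eq_zero.1 h2).resolve_left (inv_ne_zero (Nat.cast_ne_zero.2 Nat.card_pos.ne'))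

/-- The extension has norm `|L|` on every coset. -/
theorem norm_coset [Fintype (centPre L q)] [Fintype (L.subgroupOf (centPre L q))]
    (k : centPre L q) :
    ∑ n : L.subgroupOf (centPre L q), η ((n : centPre L q) * k) *
      conj (η ((n : centPre L q) * k)) = (Nat.card L : ℂ) := by
  classical
  let _ := Fintype.ofFinite ((centPre L q) ⧸ (L.subgroupOf (centPre L q)))
  obtain ⟨h1, h2, -⟩ := CharDeep.Gal.quotient_bijection (L.subgroupOf (centPre L q)) hη (res_irr L hθ q hη hres)
  have hone : IsIrrCharacter ((centPre L q) ⧸ (L.subgroupOf (centPre L q))) (fun _ => (1 : ℂ)) := Char.isIrrCharacter_principal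
  have hcl : IsClassFunction (centPre L q) fun k => η k * conj (η k) := fun a b => by
    simp only [Char.IsIrrCharacter.isClassFunction hη a b]
  have hmul1 : ((fun _ : (centPre L q) ⧸ (L.subgroupOf (centPre L q)) => (1 : ℂ)) ∘ QuotientGroup.mk' (L.subgroupOf (centPre L q))) * η = η :=
    funext fun x => one_mul _
  have havg : CharDeep.Gal.cosetAvg (L.subgroupOf (centPre L q)) (fun k => η k * conj (η k)) = fun _ => (1 : ℂ) := by
    rw [Char.IsClassFunction.eq_sum_classInner (CharDeep.Gal.isClassFunction_cosetAvg (L.subgroupOf (centPre L q)) hcl),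
      Char.IsClassFunction.eq_sum_classInner (Char.IsIrrCharacter.isClassFunction hone)]
    refine Finset.sum_congr rfl fun β _ => ?_
    congr 1
    rw [classInner_avg L hθ q hη hres]
    by_cases hβ : (β : (centPre L q) ⧸ (L.subgroupOf (centPre L q)) → ℂ) = fun _ => 1
    · rw [hβ, Char.classInner_irr_self hone, hmul1, Char.classInner_irr_self hη]
    · rw [Char.classInner_irr_of_ne hη (h1 _ β.2).1 fun h =>
          hβ (h2 _ _ β.2 hone (h.symm.trans hmul1.symm)),
        Char.classInner_irr_of_ne hone β.2 (Ne.symm hβ)]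
  have h3 := congrFun havg (k : (centPre L q) ⧸ (L.subgroupOf (centPre L q)))
  rw [CharDeep.Gal.cosetAvg_mk, inv_mul_eq_one₀ (Nat.cast_ne_zero.2 Nat.card_pos.ne')] at h3
  rw [← h3, Nat.card_congr (Subgroup.subgroupOfEquivOfLe (le_centPre L q)).toEquiv]

omit hθ hη hres in
theorem sum_coset [Fintype (centPre L q)] [Fintype (L.subgroupOf (centPre L q))]
    (f : centPre L q → ℂ) (k : centPre L q) (hk : ((k : X) : X ⧸ L) = q) :
    ∑ x : centPre L q, (open Classical in if ((x : X) : X ⧸ L) = q then f x else 0) =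
      ∑ n : L.subgroupOf (centPre L q), f ((n : centPre L q) * k) := by
  classical
  rw [← Finset.sum_filter]
  symm
  refine Finset.sum_bij (fun (n : L.subgroupOf (centPre L q)) _ => (n : centPre L q) * k) ?_ ?_ ?_
    (fun _ _ => rfl)
  · intro n _
    simp [hk, (QuotientGroup.eq_one_iff ((n : centPre L q) : X)).2 n.2]
  · intro a _ b _ h
    exact Subtype.ext (mul_right_cancel h)
  · intro x hx
    refine ⟨⟨x * k⁻¹, ?_⟩, Finset.mem_univ _, by simp⟩
    rw [Subgroup.mem_subgroupOf, ← QuotientGroup.eq_one_iff]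
    simp [(Finset.mem_filter.1 hx).2, hk]

/-- The coset function is orthogonal to the characters not over `θ`. -/
theorem classInner_cosetFun [Fintype (centPre L q)] (χ : IrrCharacter X) :
    classInner (cosetFun L q η) (χ : X → ℂ) = (Nat.card (centPre L q) : ℂ)⁻¹ *
      ∑ x : centPre L q,
        (open Classical in if ((x : X) : X ⧸ L) = q then η x * conj ((χ : X → ℂ) x) else 0) := by
  classical
  rw [cosetFun, Char.classInner_indFun _ _ _ (Char.IsIrrCharacter.isClassFunction χ.2), classInner]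
  congr 1
  exact Finset.sum_congr rfl fun x _ => by split_ifs <;> simp

theorem classInner_cosetFun_eq_zero (χ : IrrCharacter X)
    (hχ : classInner (fun n : L => (χ : X → ℂ) n) θ = 0) :
    classInner (cosetFun L q η) (χ : X → ℂ) = 0 := by
  classical
  haveI := Fintype.ofFinite (centPre L q)
  haveI := Fintype.ofFinite (L.subgroupOf (centPre L q))
  rw [classInner_cosetFun L hθ q hη hres]
  obtain ⟨x, rfl⟩ := QuotientGroup.mk_surjective q
  rw [sum_coset L (x : X ⧸ L) _ ⟨x, mem_centPre L |>.2 rfl⟩ rfl]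
  have h := congrArg (starRingEnd ℂ)
    (avg_eq_zero L hθ (x : X ⧸ L) hη hres χ hχ ⟨x, mem_centPre L |>.2 rfl⟩)
  rw [map_sum, map_zero] at h
  simp only [map_mul, Complex.conj_conj] at h
  rw [Finset.sum_congr rfl (fun n _ => mul_comm _ _), h, mul_zero]

end Over

variable (hθ : IsIrrCharacter L θ) (hinv : ∀ g, conjFun L θ g = θ)
include hθ hinv

theorem exists_extension (q : X ⧸ L) (hc : IsCyclic (Subgroup.centralizer ({q} : Set (X ⧸ L)))) :
    ∃ η : centPre L q → ℂ, IsIrrCharacter (centPre L q) η ∧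
      ∀ (k : centPre L q) (hk : (k : X) ∈ L), η k = θ ⟨k, hk⟩ := by
  classical
  haveI := Fintype.ofFinite (L.subgroupOf (centPre L q))
  haveI := hc
  have hcyc : IsCyclic (centPre L q ⧸ L.subgroupOf (centPre L q)) :=
    isCyclic_of_surjective (centEquiv L q).symm (centEquiv L q).symm.surjective
  obtain ⟨η, hη, hr⟩ := CharDeep.Extend.extends_of_cyclic (L.subgroupOf (centPre L q))
    (θ ∘ Subgroup.subgroupOfEquivOfLe (le_centPre L q))
    (CharTwist.isIrrCharacter_comp_equiv hθ _)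
    (fun g n => by
      have h := congrFun (hinv (g : X)) ⟨((n : centPre L q) : X), n.2⟩
      exact h) hcyc
  exact ⟨η, hη, fun k hk => hr ⟨k, hk⟩⟩

theorem isClassFunction_extendByZero : IsClassFunction X (Cfsg.extendByZero L θ) := by
  intro g c
  by_cases hg : g ∈ L
  · rw [Char.extendByZero_apply_mem L θ hg,
      Char.extendByZero_apply_mem L θ (‹L.Normal›.conj_mem g hg c)]
    exact congrFun (hinv c) ⟨g, hg⟩
  · rw [Char.extendByZero_of_notMem L θ hg, Char.extendByZero_of_notMem]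
    intro h
    refine hg ?_
    have := ‹L.Normal›.conj_mem _ h c⁻¹
    simpa [mul_assoc] using this

omit hθ hinv in
theorem classInner_extendByZero (f : X → ℂ) :
    classInner (Cfsg.extendByZero L θ) f =
      (Nat.card L : ℂ) / (Nat.card X : ℂ) * classInner θ (fun n : L => f n) := by
  rw [classInner, classInner, Char.sum_extendByZero_mul L (θ := θ) (fun x => conj (f x))]
  field_simp

variable {ψ₁ ψ₂ : IrrCharacter X} (h12 : ψ₁ ≠ ψ₂)
  (hover : ∀ χ : IrrCharacter X, classInner (fun n : L => (χ : X → ℂ) n) θ ≠ 0 ↔ χ = ψ₁ ∨ χ = ψ₂)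
include h12 hover

omit hθ hinv in
theorem expand_two {F : X → ℂ} (hF : IsClassFunction X F)
    (h0 : ∀ χ : IrrCharacter X, classInner (fun n : L => (χ : X → ℂ) n) θ = 0 →
      classInner F (χ : X → ℂ) = 0) :
    F = classInner F (ψ₁ : X → ℂ) • (ψ₁ : X → ℂ) + classInner F (ψ₂ : X → ℂ) • (ψ₂ : X → ℂ) := by
  classical
  conv_lhs => rw [Char.IsClassFunction.eq_sum_classInner hF]
  rw [← Finset.sum_pair h12
    (f := fun χ : IrrCharacter X => classInner F (χ : X → ℂ) • (χ : X → ℂ))]
  refine (Finset.sum_subset (Finset.subset_univ _) fun χ _ hχ => ?_).symm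
  rw [h0 χ (by_contra fun h => hχ (by simpa using (hover χ).1 h)), zero_smul]

theorem classInner_extendByZero_eq_zero (χ : IrrCharacter X)
    (hχ : classInner (fun n : L => (χ : X → ℂ) n) θ = 0) :
    classInner (Cfsg.extendByZero L θ) (χ : X → ℂ) = 0 := by
  rw [classInner_extendByZero, ← Char.classInner_conj_symm, hχ, map_zero, mul_zero]

/-- All nontrivial elements with cyclic centraliser are conjugate. -/
theorem isConj_of_cyclic (q u : X ⧸ L) (hq : q ≠ 1) (hu : u ≠ 1)
    (hcq : IsCyclic (Subgroup.centralizer ({q} : Set (X ⧸ L))))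
    (hcu : IsCyclic (Subgroup.centralizer ({u} : Set (X ⧸ L)))) : IsConj q u := by
  classical
  by_contra hne
  obtain ⟨η, hη, hηr⟩ := exists_extension L hθ hinv q hcq
  obtain ⟨ξ, hξ, hξr⟩ := exists_extension L hθ hinv u hcu
  have hex : ∀ (q : X ⧸ L) (η : centPre L q → ℂ), IsIrrCharacter (centPre L q) η →
      (∀ (k : centPre L q) (hk : (k : X) ∈ L), η k = θ ⟨k, hk⟩) →
      ∃ x : X, (x : X ⧸ L) = q ∧ cosetFun L q η x ≠ 0 := by
    intro q η hη hr
    obtain ⟨x, rfl⟩ := QuotientGroup.mk_surjective q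
    haveI := Fintype.ofFinite (centPre L (x : X ⧸ L))
    haveI := Fintype.ofFinite (L.subgroupOf (centPre L (x : X ⧸ L)))
    have h := norm_coset L hθ _ hη hr ⟨x, mem_centPre L |>.2 rfl⟩
    by_contra hno
    push Not at hno
    rw [Finset.sum_eq_zero fun n _ => ?_] at h
    · exact Nat.cast_ne_zero.2 Nat.card_pos.ne' h.symm
    · have hn : ((((n : centPre L (x : X ⧸ L)) * ⟨x, mem_centPre L |>.2 rfl⟩ :
          centPre L (x : X ⧸ L)) : X) : X ⧸ L) = (x : X ⧸ L) := by
        simp [(QuotientGroup.eq_one_iff ((n : centPre L (x : X ⧸ L)) : X)).2 n.2]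
      rw [← cosetFun_apply_coset L _ (Char.IsIrrCharacter.isClassFunction hη) _ hn, hno _ hn,
        zero_mul]
  obtain ⟨xq, hxq, hFq⟩ := hex q η hη hηr
  obtain ⟨xu, hxu, hFu⟩ := hex u ξ hξ hξr
  let F : Fin 3 → X → ℂ := ![Cfsg.extendByZero L θ, cosetFun L q η, cosetFun L u ξ]
  let x : Fin 3 → X := ![1, xq, xu]
  have hdiag : ∀ i, F i (x i) ≠ 0 := by
    intro i
    fin_cases i
    · show Cfsg.extendByZero L θ 1 ≠ 0
      rw [Char.extendByZero_apply_mem L θ L.one_mem]
      exact Char.IsIrrCharacter.apply_one_ne_zero hθ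
    · exact hFq
    · exact hFu
  have hoff : ∀ i j, i ≠ j → F i (x j) = 0 := by
    have hqu : ¬ IsConj u q := fun h => hne h.symm
    have h1q : ¬ IsConj q ((1 : X) : X ⧸ L) := fun h => hq (isConj_one_left.1 h)
    have h1u : ¬ IsConj u ((1 : X) : X ⧸ L) := fun h => hu (isConj_one_left.1 h)
    have hnq : xq ∉ L := fun h => hq (hxq ▸ (QuotientGroup.eq_one_iff xq).2 h)
    have hnu : xu ∉ L := fun h => hu (hxu ▸ (QuotientGroup.eq_one_iff xu).2 h)
    intro i j hij
    fin_cases i <;> fin_cases j <;> simp at hij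
    · exact Char.extendByZero_of_notMem L θ hnq
    · exact Char.extendByZero_of_notMem L θ hnu
    · exact cosetFun_eq_zero L q η h1q
    · exact cosetFun_eq_zero L q η (hxu ▸ hne)
    · exact cosetFun_eq_zero L u ξ h1u
    · exact cosetFun_eq_zero L u ξ (hxq ▸ hqu)
  have hexp : ∀ i, F i = classInner (F i) (ψ₁ : X → ℂ) • (ψ₁ : X → ℂ) +
      classInner (F i) (ψ₂ : X → ℂ) • (ψ₂ : X → ℂ) := by
    intro i
    fin_cases i
    · exact expand_two L h12 hover (isClassFunction_extendByZero L hθ hinv)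
        (classInner_extendByZero_eq_zero L hθ hinv h12 hover)
    · exact expand_two L h12 hover (Char.isClassFunction_indFun _ _)
        (fun χ hχ => classInner_cosetFun_eq_zero L hθ q hη hηr χ hχ)
    · exact expand_two L h12 hover (Char.isClassFunction_indFun _ _)
        (fun χ hχ => classInner_cosetFun_eq_zero L hθ u hξ hξr χ hχ)
  have hli : LinearIndependent ℂ fun i : Fin 3 =>
      (![classInner (F i) (ψ₁ : X → ℂ), classInner (F i) (ψ₂ : X → ℂ)] : Fin 2 → ℂ) := by
    rw [Fintype.linearIndependent_iff]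
    intro g hg j
    have h0 := congrFun hg 0
    have h1 := congrFun hg 1
    simp only [Finset.sum_apply, Pi.smul_apply, smul_eq_mul, Matrix.cons_val_zero,
      Matrix.cons_val_one, Pi.zero_apply] at h0 h1
    have h2 : ∑ i, g i * F i (x j) = 0 := by
      have h3 : ∀ i, g i * F i (x j) =
          (g i * classInner (F i) (ψ₁ : X → ℂ)) * (ψ₁ : X → ℂ) (x j) +
          (g i * classInner (F i) (ψ₂ : X → ℂ)) * (ψ₂ : X → ℂ) (x j) := by
        intro i
        conv_lhs => rw [hexp i]
        simp only [Pi.add_apply, Pi.smul_apply, smul_eq_mul]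
        ring
      rw [Finset.sum_congr rfl fun i _ => h3 i, Finset.sum_add_distrib, ← Finset.sum_mul,
        ← Finset.sum_mul, h0, h1, zero_mul, zero_mul, add_zero]
    rw [Finset.sum_eq_single j (fun i _ hij => by rw [hoff i j hij, mul_zero]) (by simp)] at h2
    exact (mul_eq_zero.1 h2).resolve_right (hdiag j)
  have h := hli.fintype_card_le_finrank
  simp at h

/-- A self-centralising element of prime order whose powers are conjugate. -/
theorem norm_condition (q : X ⧸ L) (hℓ : (orderOf q).Prime) (h2 : orderOf q ≠ 2)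
    (hC : Subgroup.centralizer ({q} : Set (X ⧸ L)) = Subgroup.zpowers q)
    (hpow : ∀ u ∈ Subgroup.zpowers q, u ≠ 1 → IsConj q u) :
    orderOf q % 4 = 1 ∧ ∃ g : ℕ, Nat.card (X ⧸ L) = orderOf q * g ^ 2 := by
  classical
  set ℓ := orderOf q with hℓdef
  haveI : Fact ℓ.Prime := ⟨hℓ⟩
  have hq1 : q ≠ 1 := fun h => hℓ.ne_one (by rw [hℓdef, h, orderOf_one])
  have hcyc : IsCyclic (Subgroup.centralizer ({q} : Set (X ⧸ L))) := hC ▸ inferInstance
  haveI := Fintype.ofFinite (centPre L q)
  haveI := Fintype.ofFinite (L.subgroupOf (centPre L q))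
  haveI := Fintype.ofFinite (centPre L q ⧸ L.subgroupOf (centPre L q))
  obtain ⟨η₀, hη₀, hr₀⟩ := exists_extension L hθ hinv q hcyc
  -- the Galois element
  obtain ⟨ξ, hξ⟩ := IsCyclic.exists_generator (α := (ZMod ℓ)ˣ)
  set i := (ξ : ZMod ℓ).val
  have hi : (i : ZMod ℓ) = (ξ : ZMod ℓ) := ZMod.natCast_zmod_val _
  have hqi : q ^ i ≠ 1 := by
    intro h
    have h1 := (ZMod.natCast_eq_zero_iff i ℓ).2 (orderOf_dvd_of_pow_eq_one h)
    rw [hi] at h1
    exact ξ.ne_zero h1
  obtain ⟨c, hc⟩ := isConj_iff.1 (hpow _ (Subgroup.npow_mem_zpowers q i) hqi)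
  obtain ⟨g, rfl⟩ := QuotientGroup.mk_surjective c
  have hmkpow : ∀ k : centPre L q, ∃ j : ℕ, ((k : X) : X ⧸ L) = q ^ j := by
    intro k
    have h : ((k : X) : X ⧸ L) ∈ Subgroup.zpowers q := hC ▸ k.2
    obtain ⟨j, hj⟩ := mem_powers_iff_mem_zpowers.2 h
    exact ⟨j, hj.symm⟩
  have hgmem : ∀ k : centPre L q, g * (k : X) * g⁻¹ ∈ centPre L q := by
    intro k
    obtain ⟨j, hj⟩ := hmkpow k
    show ((g * (k : X) * g⁻¹ : X) : X ⧸ L) ∈ Subgroup.centralizer ({q} : Set (X ⧸ L))
    rw [hC, QuotientGroup.mk_mul, QuotientGroup.mk_mul, QuotientGroup.mk_inv, hj, ← conj_pow, hc]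
    exact Subgroup.pow_mem _ (Subgroup.npow_mem_zpowers q i) j
  let σ₀ : centPre L q →* centPre L q :=
    { toFun := fun k => ⟨g * k * g⁻¹, hgmem k⟩
      map_one' := Subtype.ext (by simp)
      map_mul' := fun a b => Subtype.ext (by simp [mul_assoc]) }
  have hσinj : Function.Injective σ₀ := fun a b h => by
    have := congrArg Subtype.val h
    exact Subtype.ext (mul_left_cancel (mul_right_cancel this))
  let σ : centPre L q ≃* centPre L q :=
    MulEquiv.ofBijective σ₀ ⟨hσinj, Finite.injective_iff_surjective.1 hσinj⟩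
  have hσmk : ∀ k : centPre L q, ((σ k : X) : X ⧸ L) = (g : X ⧸ L) * ((k : X) : X ⧸ L) * (g : X ⧸ L)⁻¹ :=
    fun k => by show ((g * (k : X) * g⁻¹ : X) : X ⧸ L) = _; simp
  have hσpow : ∀ k : centPre L q, ((σ k : X) : X ⧸ L) = ((k : X) : X ⧸ L) ^ i := by
    intro k
    obtain ⟨j, hj⟩ := hmkpow k
    rw [hσmk, hj, ← conj_pow, hc, ← pow_mul, ← pow_mul, mul_comm]
  -- a fixed extension
  obtain ⟨η, hη, hr, hfix⟩ : ∃ η : centPre L q → ℂ, IsIrrCharacter (centPre L q) η ∧
      (∀ (k : centPre L q) (hk : (k : X) ∈ L), η k = θ ⟨k, hk⟩) ∧ ∀ k, η (σ k) = η k := by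
    have hη' : IsIrrCharacter (centPre L q) (η₀ ∘ σ) := CharTwist.isIrrCharacter_comp_equiv hη₀ σ
    obtain ⟨l, hl, hle⟩ := CharDeep.Gal.exists_linear_of_res_eq (L.subgroupOf (centPre L q)) hη₀ hη'
      (res_irr L hθ q hη₀ hr₀) fun n => by
        show η₀ (σ n) = η₀ n
        rw [hr₀ (σ n) (‹L.Normal›.conj_mem _ n.2 g), hr₀ n n.2]
        exact congrFun (hinv g) ⟨((n : centPre L q) : X), n.2⟩
    have hlL : ∀ k : centPre L q, ((k : X) : X ⧸ L) = 1 → l k = 1 := fun k hk =>
      hl ⟨k, (QuotientGroup.eq_one_iff (k : X)).1 hk⟩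
    have hlℓ : ∀ k, l k ^ ℓ = 1 := fun k => by
      rw [← map_pow]
      refine hlL _ ?_
      obtain ⟨j, hj⟩ := hmkpow k
      rw [SubgroupClass.coe_pow, QuotientGroup.mk_pow, hj, ← pow_mul, mul_comm, pow_mul,
        pow_orderOf_eq_one, one_pow]
    have hlσ : ∀ k, l (σ k) = l k ^ i := fun k => by
      rw [← map_pow, ← inv_mul_eq_one, ← map_inv, ← map_mul]
      refine hlL _ ?_
      rw [Subgroup.coe_mul, Subgroup.coe_inv, QuotientGroup.mk_mul, QuotientGroup.mk_inv,
        hσpow, SubgroupClass.coe_pow, QuotientGroup.mk_pow, inv_mul_cancel]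
    have hξ1 : (1 : ZMod ℓ) - (ξ : ZMod ℓ) ≠ 0 := by
      intro h
      have hξ' : ξ = 1 := Units.ext (by rw [Units.val_one]; exact (sub_eq_zero.1 h).symm)
      have hcardu : Fintype.card (ZMod ℓ)ˣ = ℓ - 1 := ZMod.card_units ℓ
      have hsub : ∀ w : (ZMod ℓ)ˣ, w = 1 := fun w => by
        have hw := hξ w
        rw [hξ', Subgroup.zpowers_one_eq_bot, Subgroup.mem_bot] at hw
        exact hw
      have : Fintype.card (ZMod ℓ)ˣ ≤ 1 := Fintype.card_le_one_iff.2 fun a b => by rw [hsub a, hsub b]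
      have := hℓ.two_le
      omega
    set t := ((1 - (ξ : ZMod ℓ))⁻¹).val
    have ht : (t : ZMod ℓ) * (1 - (ξ : ZMod ℓ)) = 1 := by
      rw [ZMod.natCast_zmod_val, inv_mul_cancel₀ hξ1]
    refine ⟨fun k => ((l k ^ t : ℂˣ) : ℂ) * η₀ k, ?_, ?_, fun k => ?_⟩
    · exact Char.IsIrrCharacter.linear_mul hη₀ (l ^ t)
    · intro k hk
      show ((l k ^ t : ℂˣ) : ℂ) * η₀ k = _
      rw [hlL k ((QuotientGroup.eq_one_iff (k : X)).2 hk), one_pow, Units.val_one, one_mul]
      exact hr₀ k hk
    · show ((l (σ k) ^ t : ℂˣ) : ℂ) * η₀ (σ k) = _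
      rw [show η₀ (σ k) = (l k : ℂ) * η₀ k from congrFun hle k, hlσ, ← mul_assoc, ← Units.val_mul,
        ← pow_mul, ← pow_succ]
      congr 2
      refine pow_eq_pow_iff_modEq.2 (Nat.ModEq.of_dvd (orderOf_dvd_of_pow_eq_one (hlℓ k)) ?_)
      rw [← ZMod.natCast_eq_natCast_iff]
      push_cast
      rw [hi]
      linear_combination -ht
  set Z := L.subgroupOf (centPre L q)
  set e := centEquiv L q
  have hcardK : Nat.card (centPre L q ⧸ Z) = ℓ := by
    rw [Nat.card_congr e.toEquiv, hC, Nat.card_zpowers]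
  have hcardKL : Nat.card (centPre L q) = ℓ * Nat.card L := by
    rw [Subgroup.card_eq_card_quotient_mul_card_subgroup Z, hcardK,
      Nat.card_congr (Subgroup.subgroupOfEquivOfLe (le_centPre L q)).toEquiv]
  have hL0 : (Nat.card L : ℂ) ≠ 0 := Nat.cast_ne_zero.2 Nat.card_pos.ne'
  have hℓ0 : (ℓ : ℂ) ≠ 0 := Nat.cast_ne_zero.2 hℓ.ne_zero
  obtain ⟨x₀, hx₀⟩ := QuotientGroup.mk_surjective q
  set k₀ : centPre L q := ⟨x₀, mem_centPre L |>.2 (by rw [hx₀])⟩
  have hk₀ : ((k₀ : X) : X ⧸ L) = q := hx₀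
  -- the coset averages
  let A : IrrCharacter X → centPre L q ⧸ Z → ℂ := fun ψ =>
    CharDeep.Gal.cosetAvg Z fun k => (ψ : X → ℂ) k * conj (η k)
  have hAσ : ∀ (ψ : IrrCharacter X) (k : centPre L q), A ψ (σ k : centPre L q) = A ψ (k : centPre L q) := by
    intro ψ k
    show CharDeep.Gal.cosetAvg Z _ _ = CharDeep.Gal.cosetAvg Z _ _
    rw [CharDeep.Gal.cosetAvg_mk, CharDeep.Gal.cosetAvg_mk]
    congr 1
    let f : Z → Z := fun n => ⟨σ n, ‹L.Normal›.conj_mem _ n.2 g⟩
    have hf : Function.Bijective f := by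
      have hinj : Function.Injective f := fun a b h =>
        Subtype.ext (σ.injective (congrArg Subtype.val h))
      exact ⟨hinj, Finite.injective_iff_surjective.1 hinj⟩
    refine (Fintype.sum_bijective f hf _ _ fun n => ?_).symm
    show _ = (ψ : X → ℂ) ((σ n : centPre L q) * σ k : centPre L q) *
      conj (η ((σ n : centPre L q) * σ k))
    rw [← map_mul, hfix,
      show ((σ ((n : centPre L q) * k) : centPre L q) : X) = g * ((n : centPre L q) * k : centPre L q) * g⁻¹
        from rfl, Char.IsIrrCharacter.isClassFunction ψ.2]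
  have hAeq : ∀ (ψ : IrrCharacter X) (r : centPre L q ⧸ Z), r ≠ 1 → A ψ r = A ψ k₀ := by
    intro ψ r hr
    obtain ⟨k, rfl⟩ := QuotientGroup.mk_surjective r
    have hk1 : ((k : X) : X ⧸ L) ≠ 1 := fun h => hr ((QuotientGroup.eq_one_iff k).2
      ((QuotientGroup.eq_one_iff (k : X)).1 h))
    obtain ⟨j, hj⟩ := hmkpow k
    have hjℓ : (j : ZMod ℓ) ≠ 0 := fun h => hk1 (by
      obtain ⟨d, hd⟩ := (ZMod.natCast_eq_zero_iff j ℓ).1 h
      rw [hj, hd, pow_mul, pow_orderOf_eq_one, one_pow])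
    obtain ⟨n, hn⟩ := mem_powers_iff_mem_zpowers.2 (hξ (Units.mk0 _ hjℓ))
    have hjn : ((k : X) : X ⧸ L) = q ^ (i ^ n) := by
      rw [hj]
      refine pow_eq_pow_iff_modEq.2 ((ZMod.natCast_eq_natCast_iff _ _ _).1 ?_)
      have := congrArg Units.val hn
      simp only [Units.val_pow_eq_pow_val, Units.val_mk0] at this
      rw [Nat.cast_pow, hi]
      exact this.symm
    clear hr hk1 hj hn hjℓ
    induction n generalizing k with
    | zero =>
      rw [pow_zero, pow_one] at hjn
      rw [(mk_eq_mk_iff L q k k₀).2 (hjn.trans hk₀.symm)]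
    | succ n ih =>
      obtain ⟨k', rfl⟩ := σ.surjective k
      rw [hAσ]
      refine ih k' ?_
      rw [pow_succ', pow_mul, ← hc, conj_pow] at hjn
      rw [hσmk] at hjn
      exact mul_left_cancel (mul_right_cancel hjn)
  let β : IrrCharacter X → ℂ := fun ψ => A ψ k₀
  -- integrality
  have hint : ∀ ψ : IrrCharacter X, ∃ z : ℤ, β ψ = (z : ℂ) := by
    intro ψ
    haveI : IsCyclic (centPre L q ⧸ Z) := isCyclic_of_prime_card hcardK
    letI : CommGroup (centPre L q ⧸ Z) := IsCyclic.commGroup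
    haveI : NeZero (Monoid.exponent (centPre L q ⧸ Z)) := ⟨Monoid.exponent_ne_zero_of_finite⟩
    have hk01 : (k₀ : centPre L q ⧸ Z) ≠ 1 := fun h => hq1 (by
      rw [← hk₀]
      exact (QuotientGroup.eq_one_iff (k₀ : X)).2 ((QuotientGroup.eq_one_iff k₀).1 h))
    obtain ⟨μ, hμ⟩ := CommGroup.exists_apply_ne_one_of_hasEnoughRootsOfUnity
      (centPre L q ⧸ Z) ℂ hk01
    obtain ⟨h1, -, -⟩ := CharDeep.Gal.quotient_bijection Z hη (res_irr L hθ q hη hr)
    have hres : IsCharacter (centPre L q) (fun k : centPre L q => (ψ : X → ℂ) k) :=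
      Clifford.isCharacter_res (Char.IsIrrCharacter.isCharacter ψ.2) _
    obtain ⟨n0, hn0⟩ := Char.IsCharacter.exists_nat_classInner hres
      (h1 _ (Char.isIrrCharacter_linear (1 : centPre L q ⧸ Z →* ℂˣ))).1
    obtain ⟨n1, hn1⟩ := Char.IsCharacter.exists_nat_classInner hres
      (h1 _ (Char.isIrrCharacter_linear μ)).1
    rw [← classInner_avg L hθ q hη hr] at hn0 hn1
    refine ⟨(n0 : ℤ) - n1, ?_⟩
    push_cast
    rw [← hn0, ← hn1]
    show β ψ = classInner (A ψ) _ - classInner (A ψ) _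
    have hsumμ : ∑ r : centPre L q ⧸ Z, conj ((μ r : ℂ)) = 0 := by
      rw [← map_sum]
      rw [show ∑ r : centPre L q ⧸ Z, ((μ r : ℂˣ) : ℂ) = 0 from
        sum_hom_units_eq_zero ((Units.coeHom ℂ).comp μ) (fun h => hμ (Units.ext
          ((DFunLike.congr_fun h (k₀ : centPre L q ⧸ Z)).trans Units.val_one.symm))), map_zero]
    simp only [classInner, ← mul_sub, ← Finset.sum_sub_distrib, MonoidHom.one_apply, Units.val_one,
      map_one]
    have hrw : ∀ r : centPre L q ⧸ Z, A ψ r * (1 - conj ((μ r : ℂ))) =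
        β ψ * (1 - conj ((μ r : ℂ))) := by
      intro r
      by_cases hr : r = 1
      · subst hr; simp
      · rw [hAeq ψ r hr]
    rw [Finset.sum_congr rfl fun r _ => hrw r, ← Finset.mul_sum, Finset.sum_sub_distrib, hsumμ,
      Finset.sum_const, Finset.card_univ, ← Nat.card_eq_fintype_card, hcardK, nsmul_one, sub_zero]
    field_simp
  choose z hz using hint
  -- the two functions
  set f₁ := Cfsg.extendByZero L θ
  set F := cosetFun L q η
  have hF : F = classInner F (ψ₁ : X → ℂ) • (ψ₁ : X → ℂ) + classInner F (ψ₂ : X → ℂ) • (ψ₂ : X → ℂ) :=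
    expand_two L h12 hover (Char.isClassFunction_indFun _ _)
      (fun χ hχ => classInner_cosetFun_eq_zero L hθ q hη hr χ hχ)
  have hf₁ : f₁ = classInner f₁ (ψ₁ : X → ℂ) • (ψ₁ : X → ℂ) + classInner f₁ (ψ₂ : X → ℂ) • (ψ₂ : X → ℂ) :=
    expand_two L h12 hover (isClassFunction_extendByZero L hθ hinv)
      (classInner_extendByZero_eq_zero L hθ hinv h12 hover)
  have hFψ : ∀ ψ : IrrCharacter X, classInner F (ψ : X → ℂ) = (z ψ : ℂ) / ℓ := by
    intro ψ
    rw [classInner_cosetFun L hθ q hη hr, sum_coset L q _ k₀ hk₀]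
    have h := congrArg (starRingEnd ℂ) (hz ψ)
    simp only [β, A, CharDeep.Gal.cosetAvg_mk, map_mul, map_inv₀, map_natCast, map_sum,
      Complex.conj_conj, map_intCast] at h
    rw [Finset.sum_congr rfl (fun n _ => mul_comm _ _)] at h
    rw [← h, hcardKL, Nat.cast_mul,
      Nat.card_congr (Subgroup.subgroupOfEquivOfLe (le_centPre L q)).toEquiv]
    field_simp
    exact Finset.sum_congr (by ext; simp) fun _ _ => rfl
  have hFF : classInner F F = 1 / (ℓ : ℂ) := by
    conv_lhs => arg 2; rw [show F = cosetFun L q η from rfl]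
    show classInner (Cfsg.indFun (centPre L q) _) _ = _
    rw [Char.classInner_indFun _ _ (cosetFun L q η) (Char.isClassFunction_indFun _ _), classInner]
    rw [Finset.sum_congr rfl fun (x : centPre L q) _ =>
      (show _ = (if ((x : X) : X ⧸ L) = q then η x * conj (η x) else 0) by
        split_ifs with hx
        · rw [cosetFun_apply_coset L q (Char.IsIrrCharacter.isClassFunction hη) x hx]
        · rw [zero_mul]), sum_coset L q _ k₀ hk₀, norm_coset L hθ q hη hr, hcardKL, Nat.cast_mul]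
    field_simp
  choose a ha using fun ψ : IrrCharacter X => Char.IsCharacter.exists_nat_classInner
    (Clifford.isCharacter_res (Char.IsIrrCharacter.isCharacter ψ.2) L) hθ
  set N : ℂ := (Nat.card (X ⧸ L) : ℂ)
  have hN0 : N ≠ 0 := Nat.cast_ne_zero.2 Nat.card_pos.ne'
  have hX : (Nat.card X : ℂ) = N * (Nat.card L : ℂ) := by
    show _ = (Nat.card (X ⧸ L) : ℂ) * _
    rw [← Nat.cast_mul, ← Subgroup.card_eq_card_quotient_mul_card_subgroup]
  have hf₁ψ : ∀ ψ : IrrCharacter X, classInner f₁ (ψ : X → ℂ) = (a ψ : ℂ) / N := by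
    intro ψ
    rw [classInner_extendByZero, ← Char.classInner_conj_symm, ha, map_natCast, hX]
    field_simp
  have hinner : ∀ (G : X → ℂ), classInner G G = classInner G G → ∀ (c₁ c₂ : ℂ),
      classInner (c₁ • (ψ₁ : X → ℂ) + c₂ • (ψ₂ : X → ℂ)) G =
        c₁ * conj (classInner G (ψ₁ : X → ℂ)) + c₂ * conj (classInner G (ψ₂ : X → ℂ)) := by
    intro G _ c₁ c₂
    rw [Char.classInner_add_left, Char.classInner_smul_left, Char.classInner_smul_left,
      Char.classInner_conj_symm, Char.classInner_conj_symm]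
  have e1 : (a ψ₁ : ℂ) ^ 2 + (a ψ₂ : ℂ) ^ 2 = N := by
    have h := hinner f₁ rfl (classInner f₁ (ψ₁ : X → ℂ)) (classInner f₁ (ψ₂ : X → ℂ))
    rw [← hf₁, hf₁ψ, hf₁ψ, classInner_extendByZero] at h
    have h1 : classInner θ (fun n : L => f₁ n) = 1 := by
      rw [show (fun n : L => f₁ n) = θ from funext fun n => Char.extendByZero_coe L θ n,
        Char.classInner_irr_self hθ]
    rw [h1, hX] at h
    simp only [map_div₀, map_natCast, N] at h
    field_simp at h
    linear_combination -h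
  have e2 : (z ψ₁ : ℂ) ^ 2 + (z ψ₂ : ℂ) ^ 2 = (ℓ : ℂ) := by
    have h := hinner F rfl (classInner F (ψ₁ : X → ℂ)) (classInner F (ψ₂ : X → ℂ))
    rw [← hF, hFψ, hFψ, hFF] at h
    simp only [map_div₀, map_natCast, map_intCast] at h
    field_simp at h
    linear_combination -h
  have e3 : (a ψ₁ : ℂ) * (z ψ₁ : ℂ) + (a ψ₂ : ℂ) * (z ψ₂ : ℂ) = 0 := by
    have h := hinner F rfl (classInner f₁ (ψ₁ : X → ℂ)) (classInner f₁ (ψ₂ : X → ℂ))
    rw [← hf₁, hFψ, hFψ, hf₁ψ, hf₁ψ, classInner_extendByZero] at h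
    have h0 : (fun n : L => F n) = fun _ => (0 : ℂ) := funext fun n =>
      cosetFun_eq_zero L q η (by
        rw [(QuotientGroup.eq_one_iff (n : X)).2 n.2]
        exact fun h => hq1 (isConj_one_left.1 h))
    rw [h0, show classInner θ (fun _ : L => (0 : ℂ)) = 0 by simp [classInner], mul_zero] at h
    simp only [map_div₀, map_natCast, map_intCast] at h
    field_simp at h
    linear_combination -h
  -- arithmetic
  set z₁ := z ψ₁
  set z₂ := z ψ₂
  simp only [N] at e1
  have k1 : (a ψ₁ : ℤ) ^ 2 + (a ψ₂ : ℤ) ^ 2 = (Nat.card (X ⧸ L) : ℤ) := by exact_mod_cast e1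
  have k2 : z₁ ^ 2 + z₂ ^ 2 = (ℓ : ℤ) := by exact_mod_cast e2
  have k3 : (a ψ₁ : ℤ) * z₁ + (a ψ₂ : ℤ) * z₂ = 0 := by exact_mod_cast e3
  have k4 : z₂.natAbs ^ 2 * Nat.card (X ⧸ L) = ℓ * a ψ₁ ^ 2 := by
    zify
    rw [sq_abs, ← k1, ← k2]
    linear_combination ((a ψ₂ : ℤ) * z₂ - (a ψ₁ : ℤ) * z₁) * k3
  have k5 : z₁.natAbs ^ 2 + z₂.natAbs ^ 2 = ℓ := by
    zify
    rw [sq_abs, sq_abs, k2]
  have hndvd : ¬ ℓ ∣ z₂.natAbs := by
    rintro ⟨d, hd⟩
    rcases Nat.eq_zero_or_pos d with rfl | hd0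
    · rw [hd, mul_zero, zero_pow two_ne_zero, add_zero] at k5
      exact Nat.Prime.not_prime_pow le_rfl (k5 ▸ hℓ)
    · have : ℓ ^ 2 ≤ z₂.natAbs ^ 2 := Nat.pow_le_pow_left (hd ▸ Nat.le_mul_of_pos_right _ hd0) 2
      nlinarith [hℓ.two_le]
  refine ⟨?_, ?_⟩
  · have hodd := hℓ.eq_two_or_odd
    rcases Nat.even_or_odd z₁.natAbs with ⟨s, hs⟩ | ⟨s, hs⟩ <;>
      rcases Nat.even_or_odd z₂.natAbs with ⟨s', hs'⟩ | ⟨s', hs'⟩ <;>
      rw [hs, hs'] at k5 <;> ring_nf at k5 <;> omega
  · have h1 : z₂.natAbs ^ 2 ∣ a ψ₁ ^ 2 :=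
      (Nat.Coprime.pow_left 2 (Nat.coprime_comm.1 (hℓ.coprime_iff_not_dvd.2 hndvd))).dvd_of_dvd_mul_left
        ⟨_, k4.symm⟩
    obtain ⟨d, hd⟩ := (Nat.pow_dvd_pow_iff two_ne_zero).1 h1
    refine ⟨d, ?_⟩
    have hz0 : 0 < z₂.natAbs ^ 2 := pow_pos (Nat.pos_of_ne_zero fun h => hndvd (by rw [h]; exact dvd_zero ℓ)) 2
    refine Nat.eq_of_mul_eq_mul_left hz0 ?_
    rw [k4, hd]
    ring

end CfsgLib.KThree
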