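import Mathlib.RingTheory.IntegralDomain
import Mathlib.LinearAlgebra.Charpoly.Basic
import Mathlib.RingTheory.Adjoin.Basic
import Mathlib.GroupTheory.PGroup
import Mathlib.GroupTheory.SpecificGroups.Cyclic
import Mathlib.FieldTheory.Finiteness
import Mathlib.FieldTheory.Finite.Basic

/-!
# An element acting irreducibly: its centraliser and its conjugate powers
-/

set_option autoImplicit false
set_option linter.style.haveILetI false

namespace CfsgLib.KThree

variable {p : ℕ} [Fact p.Prime] {E W : Type*} [Group E] [Finite E] [AddCommGroup W]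
  [Module (ZMod p) W] [Finite W]

/-- The only invariant submodules are the trivial ones. -/
def Irr (S : Module.End (ZMod p) W) : Prop :=
  ∀ U : Submodule (ZMod p) W, (∀ u ∈ U, S u ∈ U) → U = ⊥ ∨ U = ⊤

theorem Irr.exists_adjoin_apply {S : Module.End (ZMod p) W} (hS : Irr S) {v : W} (hv : v ≠ 0)
    (w : W) : ∃ x ∈ Algebra.adjoin (ZMod p) {S}, x v = w := by
  let U : Submodule (ZMod p) W :=
    (Algebra.adjoin (ZMod p) {S}).toSubmodule.map
      (LinearMap.applyₗ v : Module.End (ZMod p) W →ₗ[ZMod p] W)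
  have hU : ∀ u ∈ U, S u ∈ U := by
    rintro u ⟨x, hx, rfl⟩
    exact ⟨S * (x : Module.End (ZMod p) W), Subalgebra.mul_mem (Algebra.adjoin (ZMod p) {S})
      (Algebra.self_mem_adjoin_singleton _ _) hx, rfl⟩
  rcases hS U hU with h | h
  · exact absurd ((Submodule.eq_bot_iff U).1 h v ⟨1, Subalgebra.one_mem (Algebra.adjoin (ZMod p) {S}), rfl⟩) hv
  · obtain ⟨x, hx, he⟩ := (h ▸ Submodule.mem_top : w ∈ U)
    exact ⟨x, hx, he⟩

theorem commute_of_mem_adjoin {S T x : Module.End (ZMod p) W} (hT : S * T = T * S)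
    (hx : x ∈ Algebra.adjoin (ZMod p) {S}) : x * T = T * x := by
  have h : Algebra.adjoin (ZMod p) {S} ≤ Subalgebra.centralizer (ZMod p) {T} := by
    rw [Algebra.adjoin_le_iff]
    rintro y rfl
    exact Subalgebra.mem_centralizer_iff _ |>.2 fun z hz => by rw [Set.mem_singleton_iff.1 hz, hT]
  exact ((Subalgebra.mem_centralizer_iff _).1 (h hx) T (Set.mem_singleton T)).symm

theorem Irr.mem_adjoin {S T : Module.End (ZMod p) W} (hS : Irr S) (hT : S * T = T * S) {v : W}
    (hv : v ≠ 0) : T ∈ Algebra.adjoin (ZMod p) {S} := by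
  obtain ⟨x, hx, hxv⟩ := hS.exists_adjoin_apply hv (T v)
  suffices T = x from this ▸ hx
  refine LinearMap.ext fun w => ?_
  obtain ⟨y, hy, rfl⟩ := hS.exists_adjoin_apply hv w
  have h1 := LinearMap.congr_fun (commute_of_mem_adjoin hT hy) v
  have h2 := LinearMap.congr_fun (commute_of_mem_adjoin (commute_of_mem_adjoin (T := S) rfl hx).symm hy) v
  simp only [Module.End.mul_apply] at h1 h2
  rw [← h1, ← h2, hxv]

theorem Irr.eq_zero_or_eq_zero {S x y : Module.End (ZMod p) W} (hS : Irr S)
    (hx : x ∈ Algebra.adjoin (ZMod p) {S}) (h : x * y = 0) : x = 0 ∨ y = 0 := by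
  have hU : ∀ u ∈ LinearMap.ker x, S u ∈ LinearMap.ker x := by
    intro u hu
    rw [LinearMap.mem_ker] at hu ⊢
    have := LinearMap.congr_fun (commute_of_mem_adjoin (T := S) rfl hx) u
    simp only [Module.End.mul_apply] at this
    rw [this, hu, map_zero]
  rcases hS _ hU with h1 | h1
  · exact Or.inr (LinearMap.ext fun w => LinearMap.ker_eq_bot.1 h1 (by
      have := LinearMap.congr_fun h w
      simp only [Module.End.mul_apply, LinearMap.zero_apply] at this ⊢
      rw [this, map_zero]))
  · exact Or.inl (LinearMap.ker_eq_top.1 h1)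

variable (ρ : E →* Module.End (ZMod p) W)

theorem Irr.isCyclic_centralizer (hρ : Function.Injective ρ) [Nontrivial W] {q : E}
    (hS : Irr (ρ q)) : IsCyclic (Subgroup.centralizer ({q} : Set E)) := by
  classical
  obtain ⟨v, hv⟩ := exists_ne (0 : W)
  set K := Algebra.adjoin (ZMod p) {ρ q}
  haveI := Algebra.isMulCommutative_adjoin (ZMod p)
    (show ∀ a ∈ ({ρ q} : Set (Module.End (ZMod p) W)), ∀ b ∈ ({ρ q} : Set (Module.End (ZMod p) W)),
      a * b = b * a by rintro a rfl b rfl; rfl)
  letI : CommRing K := inferInstance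
  haveI : NoZeroDivisors K := ⟨fun {a b} h => by
    rcases hS.eq_zero_or_eq_zero a.2 (congrArg Subtype.val h) with h' | h'
    · exact Or.inl (Subtype.ext h')
    · exact Or.inr (Subtype.ext h')⟩
  haveI : IsDomain K := NoZeroDivisors.to_isDomain K
  let f : Subgroup.centralizer ({q} : Set E) →* K :=
    (ρ.comp (Subgroup.centralizer ({q} : Set E)).subtype).codRestrict K.toSubmonoid fun u =>
      hS.mem_adjoin (by
        show ρ q * ρ u = ρ u * ρ q
        rw [← map_mul, ← map_mul, Subgroup.mem_centralizer_singleton_iff.1 u.2]) hv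
  exact isCyclic_of_injective_ringHom f fun a b h =>
    Subtype.ext (hρ (congrArg Subtype.val h))

theorem Irr.card_roots_le {r : ℕ} (hW : Nat.card W = p ^ r) {S : Module.End (ZMod p) W}
    [Nontrivial W] (hS : Irr S) (Z : Finset (Module.End (ZMod p) W))
    (hZ : ∀ T ∈ Z, S * T = T * S ∧ Polynomial.aeval T (minpoly (ZMod p) S) = 0) :
    Z.card ≤ r := by
  classical
  obtain ⟨v, hv⟩ := exists_ne (0 : W)
  set K := Algebra.adjoin (ZMod p) {S}
  haveI := Algebra.isMulCommutative_adjoin (ZMod p)
    (show ∀ a ∈ ({S} : Set (Module.End (ZMod p) W)), ∀ b ∈ ({S} : Set (Module.End (ZMod p) W)),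
      a * b = b * a by rintro a rfl b rfl; rfl)
  letI : CommRing K := inferInstance
  haveI : NoZeroDivisors K := ⟨fun {a b} h => by
    rcases hS.eq_zero_or_eq_zero a.2 (congrArg Subtype.val h) with h' | h'
    · exact Or.inl (Subtype.ext h')
    · exact Or.inr (Subtype.ext h')⟩
  haveI : IsDomain K := NoZeroDivisors.to_isDomain K
  have hm : (minpoly (ZMod p) S).Monic := minpoly.monic (Algebra.IsIntegral.isIntegral S)
  let m : Polynomial K := (minpoly (ZMod p) S).map (algebraMap (ZMod p) K)
  let Z' : Finset K := Z.attach.image fun T => ⟨T.1, hS.mem_adjoin (hZ T.1 T.2).1 hv⟩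
  have hcard : Z'.card = Z.card :=
    (Finset.card_image_of_injective _ (by
      intro a b h
      exact Subtype.ext (congrArg Subtype.val h :))).trans Z.card_attach
  have hm0 : m ≠ 0 := (hm.map _).ne_zero
  rw [← hcard]
  refine (Polynomial.card_le_degree_of_subset_roots (p := m) fun x hx => ?_).trans ?_
  · obtain ⟨T, -, rfl⟩ := Finset.mem_image.1 hx
    rw [Polynomial.mem_roots hm0, Polynomial.IsRoot.def, Polynomial.eval_map,
      ← Polynomial.aeval_def]
    refine Subtype.ext ?_
    rw [← Subalgebra.coe_val, ← Polynomial.aeval_algHom_apply]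
    exact (hZ T.1 T.2).2
  · rw [hm.natDegree_map]
    refine (Polynomial.natDegree_le_of_dvd (LinearMap.minpoly_dvd_charpoly S)
      (LinearMap.charpoly_monic S).ne_zero).trans ?_
    rw [LinearMap.charpoly_natDegree]
    have h := Module.natCard_eq_pow_finrank (K := ZMod p) (V := W)
    rw [hW, Nat.card_zmod] at h
    exact (Nat.pow_right_injective (Fact.out : p.Prime).two_le h).ge

end CfsgLib.KThree
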