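import Mathlib.NumberTheory.Zsqrtd.GaussianInt
import Mathlib.RingTheory.PrincipalIdealDomain
import Mathlib.RingTheory.Coprime.Lemmas
import Mathlib.Tactic.LinearCombination
import Mathlib.Tactic.Linarith
import Mathlib.Tactic.Ring
import Mathlib.Data.Nat.Factorization.Basic

/-!
# A square plus one is no higher odd power (Lebesgue)
-/

set_option autoImplicit false

namespace CfsgLib.KThree

/-- The two-adic shape of `(1 + α i) ^ (2 ^ k * o)`, `α = 2 ^ s * odd`, `o` odd. -/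
def LebInv (s k : ℕ) (W : GaussianInt) : Prop :=
  ∃ a b : ℤ, Odd a ∧ Odd b ∧ W.re - 1 = 2 ^ (2 * s + k - 1) * a ∧ W.im = 2 ^ (k + s) * b

theorem LebInv.mul {s k k' : ℕ} {W W' : GaussianInt} (hs : 1 ≤ s) (hk : 1 ≤ k) (hkk : k < k')
    (h : LebInv s k W) (h' : LebInv s k' W') : LebInv s k (W * W') := by
  obtain ⟨a, b, ha, hb, h1, h2⟩ := h
  obtain ⟨a', b', ha', hb', h1', h2'⟩ := h'
  obtain ⟨d, rfl⟩ : ∃ d, k' = k + 1 + d := ⟨k' - (k + 1), by omega⟩
  obtain ⟨n, hn⟩ : ∃ n, 2 * s + k - 1 = n := ⟨_, rfl⟩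
  have hn' : 2 * s + (k + 1 + d) - 1 = n + 1 + d := by omega
  rw [hn] at h1
  rw [hn'] at h1'
  have hre : W.re = 1 + 2 ^ n * a := by linarith
  have hre' : W'.re = 1 + 2 ^ (n + 1 + d) * a' := by linarith
  refine ⟨a + 2 * (2 ^ d * a') + 2 * (2 ^ (n + d) * (a * a')) - 2 * (2 ^ (k + 1 + d) * (b * b')),
    b + 2 * (2 ^ d * b') + 2 * (2 ^ (n + d) * (a * b')) + 2 * (2 ^ (n + d) * (b * a')), ?_, ?_, ?_, ?_⟩
  · obtain ⟨u, rfl⟩ := ha
    exact ⟨u + 2 ^ d * a' + 2 ^ (n + d) * ((2 * u + 1) * a') - 2 ^ (k + 1 + d) * (b * b'), by ring⟩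
  · obtain ⟨u, rfl⟩ := hb
    exact ⟨u + 2 ^ d * b' + 2 ^ (n + d) * (a * b') + 2 ^ (n + d) * ((2 * u + 1) * a'), by ring⟩
  · rw [Zsqrtd.re_mul, hre, hre', h2, h2', hn]
    have e : (2 : ℤ) ^ (k + s) * 2 ^ (k + 1 + d + s) = 2 ^ n * (2 * 2 ^ (k + 1 + d)) := by
      rw [← pow_succ' (2 : ℤ), ← pow_add, ← pow_add]
      congr 1
      omega
    linear_combination (-(b * b')) * e
  · rw [Zsqrtd.im_mul, hre, hre', h2, h2']
    ring

theorem LebInv.sq {s k : ℕ} {W : GaussianInt} (hs : 1 ≤ s) (hk : 1 ≤ k) (h : LebInv s k W) :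
    LebInv s (k + 1) (W ^ 2) := by
  obtain ⟨a, b, ha, hb, h1, h2⟩ := h
  obtain ⟨n, hn, hn1⟩ : ∃ n, 2 * s + k - 1 = n + 1 ∧ k + k + s + s = n + 2 + k :=
    ⟨2 * s + k - 2, by omega, by omega⟩
  rw [hn] at h1
  have hre : W.re = 1 + 2 ^ (n + 1) * a := by linarith
  refine ⟨a + 2 ^ n * a ^ 2 - 2 ^ k * b ^ 2, b + 2 ^ (n + 1) * (a * b), ?_, ?_, ?_, ?_⟩
  · obtain ⟨u, rfl⟩ := ha
    obtain ⟨n', rfl⟩ : ∃ n', n = n' + 1 := ⟨n - 1, by omega⟩
    obtain ⟨k', rfl⟩ : ∃ k', k = k' + 1 := ⟨k - 1, by omega⟩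
    exact ⟨u + 2 ^ n' * (2 * u + 1) ^ 2 - 2 ^ k' * b ^ 2, by ring⟩
  · obtain ⟨u, rfl⟩ := hb
    exact ⟨u + 2 ^ n * (a * (2 * u + 1)), by ring⟩
  · rw [pow_two, Zsqrtd.re_mul, hre, h2, show 2 * s + (k + 1) - 1 = n + 2 from by omega]
    have e : (2 : ℤ) ^ (k + s) * 2 ^ (k + s) = 2 ^ (n + 2) * 2 ^ k := by
      rw [← pow_add, ← pow_add]
      congr 1
      omega
    linear_combination (-(b ^ 2)) * e
  · rw [pow_two, Zsqrtd.im_mul, hre, h2]
    ring

/-- `x ^ 2 + 1` is not a `j`-th power, `j ≥ 3` odd, `x` even and positive. -/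
theorem sq_add_one_ne_pow {x y j : ℕ} (hx : Even x) (hx0 : x ≠ 0) (hj : Odd j) (hj3 : 3 ≤ j) :
    x ^ 2 + 1 ≠ y ^ j := by
  intro h
  obtain ⟨k, rfl⟩ := hx
  have hprod : (⟨(k + k : ℕ), 1⟩ : GaussianInt) * ⟨(k + k : ℕ), -1⟩ = (y : GaussianInt) ^ j := by
    rw [← Nat.cast_pow, ← h]
    ext <;> simp only [Zsqrtd.re_mul, Zsqrtd.im_mul, Zsqrtd.re_natCast, Zsqrtd.im_natCast] <;>
      push_cast <;> ring
  have hcop : IsCoprime (⟨(k + k : ℕ), 1⟩ : GaussianInt) ⟨(k + k : ℕ), -1⟩ := by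
    refine ⟨⟨(k + k : ℕ), -1⟩ - ⟨0, -(2 * (k : ℤ) * k)⟩, -⟨0, 2 * (k : ℤ) * k⟩, ?_⟩
    ext <;> simp <;> ring
  obtain ⟨w₀, u, hw₀⟩ := exists_associated_pow_of_mul_eq_pow' hcop hprod
  -- absorb the unit
  obtain ⟨i, hi⟩ := hj
  have hu4 : (u : GaussianInt) ^ 4 = 1 := by
    have hn := (Zsqrtd.norm_eq_one_iff (x := (u : GaussianInt))).2 u.isUnit
    have h0 : 0 ≤ (u : GaussianInt).norm := Zsqrtd.norm_nonneg (by norm_num) _
    have h1 : (u : GaussianInt).re * (u : GaussianInt).re + (u : GaussianInt).im * (u : GaussianInt).im = 1 := by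
      have := Int.natAbs_of_nonneg h0
      rw [hn, Zsqrtd.norm_def] at this
      push_cast at this
      linarith
    have hb : (u : GaussianInt).re * (u : GaussianInt).im = 0 := by
      rcases eq_or_ne (u : GaussianInt).re 0 with hr | hr
      · rw [hr, zero_mul]
      · have h2 : 1 ≤ (u : GaussianInt).re * (u : GaussianInt).re :=
          Int.add_one_le_iff.2 (mul_self_pos.2 hr)
        have h3 : (u : GaussianInt).im * (u : GaussianInt).im = 0 :=
          le_antisymm (by linarith) (mul_self_nonneg _)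
        rw [mul_self_eq_zero.1 h3, mul_zero]
    ext
    · simp [pow_succ]
      linear_combination ((u : GaussianInt).re * (u : GaussianInt).re +
        (u : GaussianInt).im * (u : GaussianInt).im + 1) * h1 -
        8 * (u : GaussianInt).re * (u : GaussianInt).im * hb
    · simp [pow_succ]
      linear_combination (4 * ((u : GaussianInt).re * (u : GaussianInt).re -
        (u : GaussianInt).im * (u : GaussianInt).im)) * hb
  obtain ⟨w, hw⟩ : ∃ w : GaussianInt, (⟨(k + k : ℕ), 1⟩ : GaussianInt) = w ^ j := by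
    refine ⟨(u : GaussianInt) ^ j * w₀, ?_⟩
    rw [← hw₀, mul_pow, ← pow_mul,
      show j * j = 4 * (i * i + i) + 1 from by rw [hi]; ring, pow_succ, pow_mul, hu4, one_pow,
      one_mul, mul_comm]
  -- the imaginary part of `w` is a unit
  have him : ∀ n : ℕ, w.im ∣ (w ^ n).im := by
    intro n
    induction n with
    | zero => simp
    | succ n ih =>
      rw [pow_succ, Zsqrtd.im_mul]
      exact dvd_add (dvd_mul_left _ _) (Dvd.dvd.mul_right ih _)
  have hB : w.im = 1 ∨ w.im = -1 := by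
    have h1 := him j
    rw [← hw] at h1
    exact Int.isUnit_iff.1 (isUnit_of_dvd_one h1)
  have hre : w.re ≠ 0 := by
    intro h0
    have h1 := congrArg Zsqrtd.norm hw
    rw [Zsqrtd.norm_def, map_pow (Zsqrtd.normMonoidHom) w j |> fun e => (e :
      (w ^ j).norm = w.norm ^ j), Zsqrtd.norm_def, h0] at h1
    rcases hB with e | e <;> rw [e] at h1 <;> norm_num at h1 <;>
      exact hx0 (by rw [h1])
  have heven : Even w.re := by
    by_contra hodd
    rw [Int.not_even_iff_odd] at hodd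
    have h1 := congrArg Zsqrtd.norm hw
    have h2 : Even w.norm := by
      rw [Zsqrtd.norm_def]
      obtain ⟨t, ht⟩ := hodd
      rcases hB with e | e <;> rw [e, ht] <;> exact ⟨2 * t * t + 2 * t + 1, by ring⟩
    rw [Zsqrtd.norm_def, map_pow (Zsqrtd.normMonoidHom) w j |> fun e => (e :
      (w ^ j).norm = w.norm ^ j)] at h1
    have h3 : Even (w.norm ^ j) := Int.even_pow.2 ⟨h2, by omega⟩
    rw [← h1] at h3
    obtain ⟨t, ht⟩ := h3
    push_cast at ht
    have h4 : (4 * ((k : ℤ) * k) + 1) = 2 * t := by linarith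
    generalize (k : ℤ) * k = q at h4
    omega
  -- normalise to `z = 1 + α i`
  set α : ℤ := -(w.re * w.im) with hα
  let z : GaussianInt := ⟨1, α⟩
  have hwz : w = ⟨0, w.im⟩ * z := by
    rcases hB with e | e <;> ext <;> simp [z, hα, e]
  have hpow : ∀ n : ℕ, ∃ c : ℤ, (c = 1 ∨ c = -1) ∧
      (⟨0, w.im⟩ : GaussianInt) ^ (2 * n + 1) = ⟨0, c⟩ := by
    intro n
    induction n with
    | zero => exact ⟨w.im, hB, by simp⟩
    | succ n ih =>
      obtain ⟨c, hc, hcp⟩ := ih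
      refine ⟨-c, by omega, ?_⟩
      rw [show 2 * (n + 1) + 1 = (2 * n + 1) + 2 from by ring, pow_add, hcp, sq]
      rcases hB with e | e <;> ext <;> simp [e]
  obtain ⟨c, hc, hcp⟩ := hpow i
  have hzre : (z ^ j).re = 1 ∨ (z ^ j).re = -1 := by
    have h1 := congrArg Zsqrtd.im hw
    rw [hwz, mul_pow, hi, hcp, Zsqrtd.im_mul] at h1
    rw [hi]
    simp at h1
    rcases hc with rfl | rfl
    · exact Or.inl (by linarith)
    · exact Or.inr (by linarith)
  -- the two-adic contradiction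
  have hα0 : α.natAbs ≠ 0 := by
    rw [hα]
    rcases hB with e | e <;> simp [e, hre]
  obtain ⟨s, cc, hcc, hsc⟩ := Nat.exists_eq_pow_mul_and_not_dvd hα0 2 (by norm_num)
  have hs : 1 ≤ s := by
    by_contra hs0
    have hs1 : s = 0 := by omega
    rw [hs1, pow_zero, one_mul] at hsc
    refine hcc ?_
    rw [← hsc]
    have : Even α := by rw [hα]; exact (heven.mul_right _).neg
    exact Int.natCast_dvd.1 this.two_dvd
  obtain ⟨a, ha, haα⟩ : ∃ a : ℤ, Odd a ∧ α = 2 ^ s * a := by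
    have hodd : Odd (cc : ℤ) := by
      rw [Int.odd_coe_nat]
      exact Nat.odd_iff.2 (by omega)
    rcases Int.natAbs_eq α with e | e <;> rw [hsc] at e <;> push_cast at e
    · exact ⟨cc, hodd, e⟩
    · exact ⟨-cc, hodd.neg, by rw [e]; ring⟩
  have hbase : LebInv s 1 (z ^ 2) := by
    refine ⟨-(a ^ 2), a, (ha.pow).neg, ha, ?_, ?_⟩
    · rw [pow_two, Zsqrtd.re_mul, show 2 * s + 1 - 1 = s + s from by omega, pow_add]
      simp only [z, haα]
      ring
    · rw [pow_two, Zsqrtd.im_mul, pow_add, pow_one]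
      simp only [z, haα]
      ring
  have hodd : ∀ t : ℕ, LebInv s 1 ((z ^ 2) ^ (2 * t + 1)) := by
    intro t
    induction t with
    | zero => simpa using hbase
    | succ t ih =>
      rw [show 2 * (t + 1) + 1 = (2 * t + 1) + 2 from by ring, pow_add]
      exact ih.mul hs le_rfl (by norm_num) (hbase.sq hs le_rfl)
  obtain ⟨e, o, ho, hio⟩ := Nat.exists_eq_pow_mul_and_not_dvd (show i ≠ 0 by omega) 2 (by norm_num)
  obtain ⟨t, rfl⟩ : Odd o := Nat.odd_iff.2 (by omega)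
  have hsq : ∀ d : ℕ, LebInv s (d + 1) (((z ^ 2) ^ (2 * t + 1)) ^ 2 ^ d) := by
    intro d
    induction d with
    | zero => simpa using hodd t
    | succ d ih =>
      rw [pow_succ (2 : ℕ) d, pow_mul]
      exact ih.sq hs (by omega)
  obtain ⟨P, Q, hP, hQ, h1, h2⟩ := hsq e
  have hj' : z ^ j = z * ((z ^ 2) ^ (2 * t + 1)) ^ 2 ^ e := by
    rw [← pow_mul, ← pow_mul, ← pow_succ']
    congr 1
    rw [hi, hio]
    ring
  rw [hj', Zsqrtd.re_mul, h2] at hzre
  rw [show 2 * s + (e + 1) - 1 = e + s + s from by omega] at h1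
  rw [show z.re = 1 from rfl, show z.im = 2 ^ s * a from haα] at hzre
  set P' := (((z ^ 2) ^ (2 * t + 1)) ^ 2 ^ e).re with hP'
  have hP1 : P' = 1 + 2 ^ (e + s + s) * P := by linarith
  have hexp : (2 : ℤ) ^ s * a * (2 ^ (e + 1 + s) * Q) = 2 ^ (e + s + s) * (2 * (a * Q)) := by ring
  rcases hzre with h3 | h3
  · have h4 : (2 : ℤ) ^ (e + s + s) * P = 2 ^ (e + s + s) * (2 * (a * Q)) := by
      rw [← hexp]; linarith
    have h5 := mul_left_cancel₀ (pow_ne_zero _ two_ne_zero) h4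
    exact Int.not_even_iff_odd.2 hP ⟨a * Q, by rw [h5]; ring⟩
  · obtain ⟨m, hm⟩ : ∃ m, e + s + s = m + 2 := ⟨e + s + s - 2, by omega⟩
    rw [hm] at hP1 hexp
    have h4 : (4 : ℤ) * (2 ^ m * P - 2 ^ m * (2 * (a * Q))) = -2 := by
      have : (2 : ℤ) ^ (m + 2) = 4 * 2 ^ m := by ring
      rw [this] at hP1 hexp
      linarith
    omega

end CfsgLib.KThree
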