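import Cfsg.Agent.Lib.Blocks.Quotient
import Cfsg.Agent.Lib.BlockReg.Regular
import Cfsg.Agent.Lib.BlockRank.Basic
import Cfsg.Agent.Lib.CharDeep.Gallagher
import Cfsg.Agent.Lib.Char.Induced

/-!
# A block with one character trivial on an abelian normal `p`-subgroup has rank one
-/

set_option autoImplicit false
set_option linter.style.haveILetI false
set_option maxHeartbeats 1000000
set_option synthInstance.maxHeartbeats 400000

namespace CfsgLib.KThree

open Cfsg CfsgLib CfsgLib.Char CfsgLib.Blocks CfsgLib.BlockReg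
open scoped ComplexConjugate

universe u

variable {G : Type u} [Group G] [Finite G] {p : ℕ} [Fact p.Prime] (V : Subgroup G) [V.Normal]

/-- Regular elements with the same image modulo an abelian normal `p`-subgroup are conjugate. -/
theorem exists_conj_of_regular_mk (hV : IsPGroup p V) (hab : ∀ a ∈ V, ∀ c ∈ V, a * c = c * a)
    {g h : G} (hg : ¬ p ∣ orderOf g) (hh : ¬ p ∣ orderOf h) (he : (g : G ⧸ V) = h) :
    ∃ w : G, h = w * g * w⁻¹ := by
  classical
  haveI : IsMulCommutative V := ⟨⟨fun a b => Subtype.ext (hab a a.2 b b.2)⟩⟩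
  letI : CommGroup V := { (inferInstance : Group V) with
    mul_comm := fun a b => Subtype.ext (hab a a.2 b b.2) }
  set n := orderOf g * orderOf h with hn
  have hgn : g ^ n = 1 := orderOf_dvd_iff_pow_eq_one.1 (dvd_mul_right _ _)
  have hhn : h ^ n = 1 := orderOf_dvd_iff_pow_eq_one.1 (dvd_mul_left _ _)
  have hu : g⁻¹ * h ∈ V := QuotientGroup.eq.1 he
  let a : ℕ → V := fun i => ⟨g⁻¹ ^ i * h ^ i, by
    rw [← QuotientGroup.eq_one_iff, QuotientGroup.mk_mul, QuotientGroup.mk_pow,
      QuotientGroup.mk_pow, QuotientGroup.mk_inv, ← he, inv_pow, inv_mul_cancel]⟩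
  let u : V := ⟨g⁻¹ * h, hu⟩
  let σ : V →* V := (MulAut.conjNormal g⁻¹ : V ≃* V).toMonoidHom
  have hstep : ∀ i, a (i + 1) = σ (a i) * u := fun i => Subtype.ext (by
    simp only [a, σ, u, MulEquiv.coe_toMonoidHom, Subgroup.coe_mul, MulAut.conjNormal_apply,
      inv_inv]
    rw [pow_succ' g⁻¹, pow_succ h]
    simp [mul_assoc])
  have hper : a n = a 0 := Subtype.ext (by simp [a, hgn, hhn, inv_pow])
  set c := ∏ i ∈ Finset.range n, a i with hc
  have hsum : c = σ c * u ^ n := by
    have h1 : ∏ i ∈ Finset.range n, a (i + 1) = c := by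
      have h2 := Finset.prod_range_succ' a n
      rw [Finset.prod_range_succ a n, ← hc, hper, mul_left_inj] at h2
      exact h2.symm
    conv_lhs => rw [← h1]
    rw [Finset.prod_congr rfl fun i _ => hstep i, Finset.prod_mul_distrib, ← map_prod,
      Finset.prod_const, Finset.card_range]
  obtain ⟨j, hj⟩ := IsPGroup.iff_card.1 hV
  have hcop : Nat.Coprime n (p ^ j) := by
    refine Nat.Coprime.pow_right _ (Nat.coprime_comm.1 ?_)
    exact (Fact.out : p.Prime).coprime_iff_not_dvd.2 fun hd =>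
      ((Fact.out : p.Prime).dvd_mul.1 hd).elim hg hh
  obtain ⟨k, hk⟩ : ∃ k : ℕ, n * k ≡ 1 [MOD p ^ j] := by
    rcases Nat.eq_zero_or_pos j with h0 | h0
    · exact ⟨0, by rw [h0, pow_zero]; exact Nat.modEq_one⟩
    · obtain ⟨k, -, hk⟩ := Nat.exists_mul_mod_eq_one_of_coprime hcop
        (Nat.one_lt_pow h0.ne' (Fact.out : p.Prime).one_lt)
      exact ⟨k, by rw [Nat.ModEq, hk, Nat.mod_eq_of_lt (Nat.one_lt_pow h0.ne' (Fact.out : p.Prime).one_lt)]⟩
  have huk : u ^ (n * k) = u := by
    conv_rhs => rw [← pow_one u]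
    exact pow_eq_pow_iff_modEq.2 (hk.of_dvd (hj ▸ orderOf_dvd_natCard u))
  have hw : u = (σ (c ^ k))⁻¹ * c ^ k := by
    conv_rhs => arg 2; rw [hsum, mul_pow, ← map_pow, ← pow_mul, huk]
    rw [inv_mul_cancel_left]
  refine ⟨((c ^ k : V) : G)⁻¹, ?_⟩
  have h3 := congrArg (fun x : V => (x : G)) hw
  simp only [u, σ, MulEquiv.coe_toMonoidHom, Subgroup.coe_mul, Subgroup.coe_inv,
    MulAut.conjNormal_apply, inv_inv] at h3
  rw [inv_mul_eq_iff_eq_mul] at h3
  rw [h3, inv_inv]
  simp [mul_assoc]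

variable {M : Ideal AlgInt}

theorem blockRank_eq_one_of_unique (hM : IsPModular p M) {B : Set (IrrCharacter G)}
    (hB : IsPBlock M B) (hV : IsPGroup p V) (hab : ∀ a ∈ V, ∀ c ∈ V, a * c = c * a)
    {ψ : IrrCharacter G} (hψ : ψ ∈ B)
    (huniq : ∀ χ ∈ B, (∀ x ∈ V, (χ : G → ℂ) x = (χ : G → ℂ) 1) → χ = ψ) :
    blockRank p B = 1 := by
  classical
  haveI := hM.2.1
  have hp : p.Prime := Fact.out
  letI := Fintype.ofFinite G
  letI := Fintype.ofFinite V
  letI := Fintype.ofFinite (G ⧸ V)
  refine le_antisymm ?_ (CfsgLib.BlockRank.blockRank_pos hp.ne_one ⟨ψ, hψ⟩)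
  -- one multiple per character
  have key : ∀ χ ∈ B, ∃ z : ℂ, ∀ g : G, ¬ p ∣ orderOf g → (χ : G → ℂ) g = z * (ψ : G → ℂ) g := by
    intro χ hχ
    let F : G ⧸ V → ℂ := fun x => if hx : p ∣ orderOf x then 0 else
      (χ : G → ℂ) (exists_regular_lift V hp hx).choose
    have hF : ∀ g : G, ¬ p ∣ orderOf g → F (g : G ⧸ V) = (χ : G → ℂ) g := by
      intro g hg
      have hx : ¬ p ∣ orderOf (g : G ⧸ V) := regular_mk V hg
      simp only [F, dif_neg hx]
      obtain ⟨h1, h2⟩ := (exists_regular_lift V hp hx).choose_spec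
      obtain ⟨w, hw⟩ := exists_conj_of_regular_mk V hV hab hg h1 h2.symm
      rw [hw, IsIrrCharacter.isClassFunction χ.2 g w]
    have hFcl : IsClassFunction (G ⧸ V) F := by
      intro x c
      have hord : orderOf (c * x * c⁻¹) = orderOf x :=
        orderOf_injective (MulAut.conj c).toMonoidHom (MulAut.conj c).injective x
      by_cases hx : p ∣ orderOf x
      · simp only [F, dif_pos hx, dif_pos (hord.symm ▸ hx : p ∣ orderOf (c * x * c⁻¹))]
      · obtain ⟨g, hg, rfl⟩ := exists_regular_lift V hp hx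
        obtain ⟨d, rfl⟩ := QuotientGroup.mk_surjective c
        have hg' : ¬ p ∣ orderOf (d * g * d⁻¹) := by
          rwa [show orderOf (d * g * d⁻¹) = orderOf g from
            orderOf_injective (MulAut.conj d).toMonoidHom (MulAut.conj d).injective g]
        rw [← QuotientGroup.mk_inv, ← QuotientGroup.mk_mul, ← QuotientGroup.mk_mul, hF _ hg', hF _ hg,
          IsIrrCharacter.isClassFunction χ.2 g d]
    let f : G → ℂ := fun g => F (g : G ⧸ V)
    have hfcl : IsClassFunction G f := fun g c => by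
      show F ((c * g * c⁻¹ : G) : G ⧸ V) = F (g : G ⧸ V)
      rw [QuotientGroup.mk_mul, QuotientGroup.mk_mul, QuotientGroup.mk_inv, hFcl]
    have hzero : ∀ ξ : IrrCharacter G, classInner f (ξ : G → ℂ) ≠ 0 →
        ∀ x ∈ V, (ξ : G → ℂ) x = (ξ : G → ℂ) 1 := by
      intro ξ hξ
      by_contra hnt
      refine hξ ?_
      have havg : CharDeep.Gal.cosetAvg V (ξ : G → ℂ) = 0 := by
        rw [IsClassFunction.eq_sum_classInner (CharDeep.Gal.isClassFunction_cosetAvg V
          (IsIrrCharacter.isClassFunction ξ.2))]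
        refine Finset.sum_eq_zero fun β _ => ?_
        rw [CharDeep.Gal.classInner_cosetAvg, classInner_irr_of_ne ξ.2
          (CharTwist.isIrrCharacter_comp β.2 (QuotientGroup.mk' V) (QuotientGroup.mk'_surjective V))
          fun h => hnt fun x hx => ?_, zero_smul]
        rw [h]
        show (β : G ⧸ V → ℂ) (x : G ⧸ V) = (β : G ⧸ V → ℂ) ((1 : G) : G ⧸ V)
        rw [(QuotientGroup.eq_one_iff x).2 hx, QuotientGroup.mk_one]
      rw [← classInner_conj_symm, show f = F ∘ QuotientGroup.mk' V from rfl,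
        ← CharDeep.Gal.classInner_cosetAvg, havg]
      simp [classInner]
    refine ⟨classInner f (ψ : G → ℂ), fun g hg => ?_⟩
    have hproj := proj_regular hM hB (fun ξ => if ξ = χ then 1 else 0)
      (fun ξ => classInner f (ξ : G → ℂ)) (fun x hx => ?_) g hg
    · rw [finsum_mem_eq_toFinset_sum, finsum_mem_eq_toFinset_sum,
        Finset.sum_eq_single χ (fun ξ _ hne => by rw [if_neg hne, zero_mul])
          (fun h => absurd (Set.mem_toFinset.2 hχ) h), if_pos rfl, one_mul,
        Finset.sum_eq_single ψ (fun ξ hξ hne => ?_) (fun h => absurd (Set.mem_toFinset.2 hψ) h)]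
          at hproj
      · exact hproj
      · by_cases h0 : classInner f (ξ : G → ℂ) = 0
        · rw [h0, zero_mul]
        · exact absurd (huniq ξ (Set.mem_toFinset.1 hξ) (hzero ξ h0)) hne
    · rw [finsum_mem_eq_toFinset_sum, finsum_eq_sum_of_fintype,
        Finset.sum_eq_single χ (fun ξ _ hne => by rw [if_neg hne, zero_mul])
          (fun h => absurd (Set.mem_toFinset.2 hχ) h), if_pos rfl, one_mul, ← hF x hx]
      have := congrFun (IsClassFunction.eq_sum_classInner hfcl) x
      simp only [Finset.sum_apply, Pi.smul_apply, smul_eq_mul] at this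
      exact this
  have hle : Submodule.span ℂ ((fun χ : IrrCharacter G => pRegularPart p (χ : G → ℂ)) '' B) ≤
      Submodule.span ℂ {pRegularPart p (ψ : G → ℂ)} := by
    rw [Submodule.span_le]
    rintro _ ⟨χ, hχ, rfl⟩
    obtain ⟨z, hz⟩ := key χ hχ
    refine Submodule.mem_span_singleton.2 ⟨z, ?_⟩
    funext g
    by_cases h : IsPRegular p g
    · simp [CfsgLib.BlockRank.pRegularPart_apply, h, hz g h]
    · simp [CfsgLib.BlockRank.pRegularPart_apply, h]
  refine (Submodule.finrank_mono hle).trans ((finrank_span_le_card _).trans ?_)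
  simp

end CfsgLib.KThree
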