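import Cfsg.Agent.Lib.KThree.AddAction
import Cfsg.Agent.Lib.KThree.Fusion
import Cfsg.Agent.Lib.KThree.RankOne
import Cfsg.Agent.Lib.Blocks.EqualDegrees.Core
import Cfsg.Agent.Lib.Blocks.EqualDegrees.RootData
import Cfsg.Agent.S4641
import Cfsg.Agent.S4648
import Mathlib.GroupTheory.FiniteAbelian.Duality
import Mathlib.Algebra.Module.ZMod

/-!
# A block with three characters and normal abelian defect group has cyclic defect group
-/

set_option autoImplicit false
set_option linter.style.haveILetI false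
set_option maxHeartbeats 1600000
set_option synthInstance.maxHeartbeats 400000

namespace CfsgLib.KThree

open Cfsg CfsgLib CfsgLib.Char CfsgLib.Blocks CfsgLib.BlockReg CfsgLib.CharTwist CfsgLib.EqualDeg
open scoped ComplexConjugate

universe u

variable {G : Type u} [Group G] [Finite G] {p : ℕ} [Fact p.Prime] {M : Ideal AlgInt}

/-- A character orthogonal to every function on the quotient. -/
theorem classInner_eq_zero_of_not_trivial [Fintype G] (V : Subgroup G) [V.Normal] {f : G → ℂ}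
    (hf : ∀ g, ∀ v ∈ V, f (v * g) = f g) (ξ : IrrCharacter G)
    (hξ : ¬ ∀ x ∈ V, (ξ : G → ℂ) x = (ξ : G → ℂ) 1) : classInner f (ξ : G → ℂ) = 0 := by
  classical
  let _ := Fintype.ofFinite V
  let _ := Fintype.ofFinite (G ⧸ V)
  have havg : CharDeep.Gal.cosetAvg V (ξ : G → ℂ) = 0 := by
    rw [IsClassFunction.eq_sum_classInner (CharDeep.Gal.isClassFunction_cosetAvg V
      (IsIrrCharacter.isClassFunction ξ.2))]
    refine Finset.sum_eq_zero fun β _ => ?_
    rw [CharDeep.Gal.classInner_cosetAvg, classInner_irr_of_ne ξ.2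
      (CharTwist.isIrrCharacter_comp β.2 (QuotientGroup.mk' V) (QuotientGroup.mk'_surjective V))
      fun h => hξ fun x hx => ?_, zero_smul]
    rw [h]
    show (β : G ⧸ V → ℂ) (x : G ⧸ V) = (β : G ⧸ V → ℂ) ((1 : G) : G ⧸ V)
    rw [(QuotientGroup.eq_one_iff x).2 hx, QuotientGroup.mk_one]
  have he : f = (fun q : G ⧸ V => f q.out) ∘ QuotientGroup.mk' V := by
    funext g
    show f g = f (g : G ⧸ V).out
    have hmem : (g : G ⧸ V).out * g⁻¹ ∈ V := by
      rw [← QuotientGroup.eq_one_iff]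
      simp
    conv_rhs => rw [show (g : G ⧸ V).out = (g : G ⧸ V).out * g⁻¹ * g by group, hf g _ hmem]
  rw [← classInner_conj_symm, he, ← CharDeep.Gal.classInner_cosetAvg, havg]
  simp [classInner]

/-- In characteristic two such a block has trivial defect group. -/
theorem card_eq_one_of_two (hM : IsPModular p M) {B : Set (IrrCharacter G)} (hB : IsPBlock M B)
    {V : Subgroup G} (hD : IsDefectGroup p M B V) (hk : Nat.card B = 3)
    (h0 : ∀ χ ∈ B, blockHeight p B (χ : G → ℂ) = 0) (hp : p = 2) : Nat.card V = 1 := by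
  classical
  subst hp
  haveI := hM.2.1
  obtain ⟨d, hd⟩ := IsPGroup.iff_card.1 (isPGroup_defectGroup hD)
  set a := (Nat.card G).factorization 2
  haveI := Fintype.ofFinite B
  set m := minExp 2 B
  have hdeg : ∀ χ ∈ B, (charDegree (χ : G → ℂ)).factorization 2 = m := fun χ hχ =>
    (blockHeight_eq_zero_iff hχ).1 (h0 χ hχ)
  set g := B.toFinset.gcd fun χ : IrrCharacter G => charDegree (χ : G → ℂ)
  obtain ⟨hg, v, hv0, hv2, -, hsum⟩ := Cfsg.Agent.S4641.result 2 M hM B hB V hD a d rfl hd g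
    (fun χ hχ => Finset.gcd_dvd (Set.mem_toFinset.2 hχ))
    (fun g' hg' => Finset.dvd_gcd fun χ hχ => hg' χ (Set.mem_toFinset.1 hχ))
  obtain ⟨χ₀, hχ₀⟩ := IsPBlock.nonempty hB
  have hg0 : g ≠ 0 := fun h => (deg_pos χ₀).ne' (Finset.gcd_eq_zero_iff.1 h χ₀ (Set.mem_toFinset.2 hχ₀))
  have hma : m = a - d := by
    rw [← hg]
    refine le_antisymm ?_ ?_
    · refine (Nat.prime_two.pow_dvd_iff_le_factorization hg0).1 (Finset.dvd_gcd fun χ hχ => ?_)
      rw [← hdeg χ (Set.mem_toFinset.1 hχ)]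
      exact Nat.ordProj_dvd _ _
    · rw [← hdeg χ₀ hχ₀]
      exact (Nat.factorization_le_iff_dvd hg0 (deg_pos χ₀).ne').2
        (Finset.gcd_dvd (Set.mem_toFinset.2 hχ₀)) 2
  let c : IrrCharacter G → ℕ := fun χ => charDegree (χ : G → ℂ) / 2 ^ m
  have hc : ∀ χ ∈ B.toFinset, charDegree (χ : G → ℂ) ^ 2 = (2 ^ m) ^ 2 * c χ ^ 2 ∧ Odd (c χ) := by
    intro χ hχ
    have h := hdeg χ (Set.mem_toFinset.1 hχ)
    refine ⟨?_, ?_⟩
    · rw [← mul_pow, ← h]
      show _ = (2 ^ _ * (charDegree (χ : G → ℂ) / 2 ^ m)) ^ 2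
      rw [← h, Nat.ordProj_mul_ordCompl_eq_self]
    · show Odd (charDegree (χ : G → ℂ) / 2 ^ m)
      rw [← h]
      exact Nat.odd_iff.2 (Nat.two_dvd_ne_zero.1 (Nat.not_dvd_ordCompl Nat.prime_two (deg_pos χ).ne'))
  have hS : Odd (∑ χ ∈ B.toFinset, c χ ^ 2) := by
    refine Finset.odd_sum_iff_odd_card_odd _ |>.2 ?_
    rw [Finset.filter_true_of_mem fun χ hχ => (hc χ hχ).2.pow, Set.toFinset_card,
      ← Nat.card_eq_fintype_card, hk]
    decide
  rw [finsum_mem_eq_toFinset_sum, Finset.sum_congr rfl fun χ hχ => (hc χ hχ).1, ← Finset.mul_sum,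
    ← pow_mul] at hsum
  have hu : ¬ 2 ∣ g / 2 ^ (a - d) := by
    rw [← hg]; exact Nat.not_dvd_ordCompl Nat.prime_two hg0
  have e := congrArg (fun n : ℕ => n.factorization 2) hsum
  have hu0 : g / 2 ^ (a - d) ≠ 0 := fun h => hu (h ▸ dvd_zero 2)
  simp only [Nat.factorization_mul (pow_ne_zero _ two_ne_zero) hS.pos.ne',
    Nat.factorization_mul (mul_ne_zero (pow_ne_zero _ two_ne_zero) (pow_ne_zero 2 hu0)) hv0.ne',
    Nat.factorization_mul (pow_ne_zero _ two_ne_zero) (pow_ne_zero 2 hu0), Finsupp.add_apply,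
    Nat.prime_two.factorization_pow, Finsupp.single_eq_same,
    Nat.factorization_eq_zero_of_not_dvd hS.not_two_dvd_nat,
    Nat.factorization_eq_zero_of_not_dvd hv2, Nat.factorization_pow,
    Finsupp.smul_apply, Nat.factorization_eq_zero_of_not_dvd hu, smul_zero, add_zero] at e
  have hda : d ≤ a := by
    refine (Nat.prime_two.pow_dvd_iff_le_factorization Nat.card_pos.ne').1 ?_
    rw [← hd]
    exact Subgroup.card_subgroup_dvd_card V
  rw [hd, show d = 0 by omega, pow_zero]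

variable [Fintype G] [M.IsMaximal] {B : Set (IrrCharacter G)} {D L : Subgroup G} [D.Normal]
  [L.Normal] [Fintype L] {b : Set (IrrCharacter L)} {θ : IrrCharacter L} {T : Subgroup G}

theorem eq_root_of_trivial (h : RootData p M B D L b θ T) {φ : IrrCharacter L} (hφ : φ ∈ b)
    (hφD : ∀ x ∈ D.subgroupOf L, (φ : L → ℂ) x = (φ : L → ℂ) 1) : φ = θ := by
  haveI : (D.subgroupOf L).Normal := Subgroup.normal_subgroupOf
  exact (canonical_character h.mod h.isPGroup_sub (sup_centralizer_subgroupOf D h.eq_sup) h.root.1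
    h.rootDefect).1.unique ⟨hφ, hφD⟩ ⟨h.mem, h.triv⟩

/-- A character of the block trivial on the defect group lies over the canonical character. -/
theorem over_of_trivial (h : RootData p M B D L b θ T) {χ : IrrCharacter G} (hχ : χ ∈ B)
    (hV : ∀ x ∈ D, (χ : G → ℂ) x = (χ : G → ℂ) 1) :
    classInner (fun n : L => (χ : G → ℂ) n) (θ : L → ℂ) ≠ 0 := by
  classical
  haveI : (D.subgroupOf L).Normal := Subgroup.normal_subgroupOf
  obtain ⟨χ₀, hχ₀, θ₁, hθ₁, hc₀⟩ :=
    exists_covering_of_induced L h.mod h.isPGroup h.centralizer_le h.root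
  obtain ⟨η, hη, hηc⟩ := CfsgLib.Clifford.exists_constituent_res L χ.2
  obtain ⟨g, hg⟩ := constituent_mem_conjClosure (M := M) L (ψ := ⟨η, hη⟩) h.root.1
    (block_congr h.mod h.root.2.1 hχ₀ hχ) hθ₁ hc₀ hηc
  set φ := conjIrr L ⟨η, hη⟩ g
  have hcφ : classInner (fun n : L => (χ : G → ℂ) n) (φ : L → ℂ) ≠ 0 := by
    show classInner _ ((conjIrr L ⟨η, hη⟩ g : IrrCharacter L) : L → ℂ) ≠ 0
    rw [coe_conjIrr, CfsgLib.Clifford.classInner_res_conjFun L
      (IsIrrCharacter.isClassFunction χ.2)]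
    exact hηc
  have hφD : ∀ x ∈ D.subgroupOf L, (φ : L → ℂ) x = (φ : L → ℂ) 1 := by
    by_contra hno
    refine hcφ (classInner_eq_zero_of_not_trivial (D.subgroupOf L) (fun y v hv => ?_) φ hno)
    obtain ⟨χb, hχb⟩ := exists_infl_eq D hV
    show (χ : G → ℂ) ((v * y : L) : G) = (χ : G → ℂ) (y : G)
    rw [← hχb, coe_infl]
    show (χb : G ⧸ D → ℂ) (((v : G) * (y : G) : G) : G ⧸ D) = (χb : G ⧸ D → ℂ) ((y : G) : G ⧸ D)
    rw [QuotientGroup.mk_mul, (QuotientGroup.eq_one_iff (v : G)).2 (Subgroup.mem_subgroupOf.1 hv),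
      one_mul]
  exact eq_root_of_trivial h hg hφD ▸ hcφ

/-- Two characters over `θ` and one more: the inertial quotient forces a cyclic group. -/
theorem false_of_two (h : RootData p M B D L b θ T) (hp2 : p ≠ 2)
    (hab : ∀ a ∈ D, ∀ c ∈ D, a * c = c * a) {r : ℕ} (hr : 2 ≤ r) (hcard : Nat.card D = p ^ r)
    {ψ₁ ψ₂ χ₃ : IrrCharacter G} (h12 : ψ₁ ≠ ψ₂)
    (hoverθ : ∀ χ : IrrCharacter G,
      classInner (fun n : L => (χ : G → ℂ) n) (θ : L → ℂ) ≠ 0 ↔ χ = ψ₁ ∨ χ = ψ₂)
    (hB3 : ∀ χ ∈ B, χ = ψ₁ ∨ χ = ψ₂ ∨ χ = χ₃) : False := by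
  classical
  have hp : p.Prime := Fact.out
  haveI : Fintype T := Fintype.ofFinite T
  haveI hcomm : IsMulCommutative D := ⟨⟨fun a c => Subtype.ext (hab a a.2 c c.2)⟩⟩
  letI : CommGroup D := { (inferInstance : Group D) with
    mul_comm := fun a c => Subtype.ext (hab a a.2 c c.2) }
  haveI : NeZero (Monoid.exponent D) := ⟨Monoid.exponent_ne_zero_of_finite⟩
  have hLT : L ≤ T := h.le_stab
  obtain ⟨N, hN⟩ := exists_goodExp hp (Nat.card_pos (α := G)).ne'
  choose φ hφb hφval using fun lam : D →* ℂˣ => h.exists_linear lam hN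
  have hθ1 : (θ : L → ℂ) 1 ≠ 0 := IsIrrCharacter.apply_one_ne_zero θ.2
  have hθinv : ∀ g ∈ T, conjFun L (θ : L → ℂ) g = θ := fun g hg =>
    mem_inertia.1 (h.inert.symm ▸ hg)
  have hθD : ∀ v : D, (θ : L → ℂ) ⟨v, h.le v.2⟩ = (θ : L → ℂ) 1 := fun v =>
    h.triv ⟨v, h.le v.2⟩ (Subgroup.mem_subgroupOf.2 v.2)
  have hu : ∀ (lam : D →* ℂˣ) (v : D),
      (φ lam : L → ℂ) ⟨v, h.le v.2⟩ = (lam v : ℂ) * (θ : L → ℂ) 1 := by
    intro lam v
    obtain ⟨k, hk⟩ := card_eq_pow_orderOf h.isPGroup v.2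
    have hvN : (v : G) ^ N = v := hN.pow_pElement hk
    rw [hφval, extendByZero_apply_mem D _ (by rw [hvN]; exact v.2), hθD]
    congr 2
    exact congrArg lam (Subtype.ext hvN)
  have hconj1 : ∀ (lam μ : D →* ℂˣ) (g : G), conjFun L (φ lam : L → ℂ) g = φ μ →
      linConj g lam = μ := by
    intro lam μ g hg
    refine MonoidHom.ext fun v => Units.ext (mul_right_cancel₀ hθ1 ?_)
    rw [linConj_apply, ← hu, ← hu, ← hg]
    rfl
  have hconj2 : ∀ (lam : D →* ℂˣ), ∀ g ∈ T,
      conjFun L (φ lam : L → ℂ) g = φ (linConj g lam) := by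
    intro lam g hg
    funext x
    show (φ lam : L → ℂ) ⟨g * x * g⁻¹, _⟩ = _
    rw [hφval, hφval]
    have e1 : (θ : L → ℂ) ⟨g * x * g⁻¹, ‹L.Normal›.conj_mem x x.2 g⟩ = (θ : L → ℂ) x :=
      congrFun (hθinv g hg) x
    rw [e1]
    congr 1
    by_cases hx : (x : G) ^ N ∈ D
    · rw [extendByZero_apply_mem D _ hx, extendByZero_apply_mem D _
        (by rw [conj_pow]; exact ‹D.Normal›.conj_mem _ hx g), linConj_apply]
      congr 2
      refine Subtype.ext ?_
      rw [MulAut.conjNormal_apply]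
      exact conj_pow
    · rw [extendByZero_of_notMem D _ hx, extendByZero_of_notMem]
      rw [conj_pow]
      intro hc
      refine hx ?_
      have := ‹D.Normal›.conj_mem _ hc g⁻¹
      simpa [mul_assoc] using this
  have hne1 : ∀ (lam : D →* ℂˣ) (χ : IrrCharacter G), lam ≠ 1 →
      classInner (fun n : L => (χ : G → ℂ) n) (φ lam : L → ℂ) ≠ 0 →
      classInner (fun n : L => (χ : G → ℂ) n) (θ : L → ℂ) = 0 := by
    intro lam χ hlam hc
    by_contra hθc
    obtain ⟨g, hg⟩ := CfsgLib.Clifford.exists_conjFun_eq L χ.2 θ.2 (φ lam).2 hθc hc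
    refine hlam (MonoidHom.ext fun v => Units.ext (mul_right_cancel₀ hθ1 ?_))
    rw [← hu, ← hg, MonoidHom.one_apply, Units.val_one, one_mul]
    exact hθD (MulAut.conjNormal g v)
  have hχ3 : ∀ (lam : D →* ℂˣ) (χ : IrrCharacter G), lam ≠ 1 →
      classInner (fun n : L => (χ : G → ℂ) n) (φ lam : L → ℂ) ≠ 0 → χ = χ₃ := by
    intro lam χ hlam hc
    rcases hB3 χ (h.over (hφb lam) hc) with e | e | e
    · exact absurd (hne1 lam χ hlam hc) ((hoverθ χ).2 (Or.inl e))
    · exact absurd (hne1 lam χ hlam hc) ((hoverθ χ).2 (Or.inr e))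
    · exact e
  have horbit : ∀ lam μ : D →* ℂˣ, lam ≠ 1 → μ ≠ 1 → ∃ g ∈ T, linConj g lam = μ := by
    intro lam μ hlam hμ
    obtain ⟨χ, hχ⟩ := exists_over_constituent L (φ lam)
    obtain ⟨χ', hχ'⟩ := exists_over_constituent L (φ μ)
    rw [hχ3 lam χ hlam hχ] at hχ
    rw [hχ3 μ χ' hμ hχ'] at hχ'
    obtain ⟨g, hg⟩ := CfsgLib.Clifford.exists_conjFun_eq L χ₃.2 (φ lam).2 (φ μ).2 hχ hχ'
    refine ⟨g, mem_stab_of_conj L T h.root.1 h.stab (hφb lam) ?_, hconj1 lam μ g hg⟩
    rw [show conjIrr L (φ lam) g = φ μ from Subtype.ext ((coe_conjIrr L (φ lam) g).trans hg)]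
    exact hφb μ
  -- the dual group
  have hcardW : Nat.card (D →* ℂˣ) = p ^ r := by
    rw [Nat.card_congr (CommGroup.monoidHom_mulEquiv_of_hasEnoughRootsOfUnity D ℂ).some.toEquiv, hcard]
  haveI : Finite (D →* ℂˣ) := Nat.finite_of_card_ne_zero (hcardW ▸ pow_ne_zero r hp.ne_zero)
  have hexp : ∀ lam : D →* ℂˣ, lam ^ p = 1 := by
    intro lam
    by_cases hlam : lam = 1
    · rw [hlam]
      exact MonoidHom.ext fun v => one_pow p
    obtain ⟨μ, hμ⟩ := exists_prime_orderOf_dvd_card' (G := D →* ℂˣ) p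
      (hcardW ▸ dvd_pow_self p (by omega))
    have hμ1 : μ ≠ 1 := fun e => hp.ne_one (by rw [← hμ, e, orderOf_one])
    obtain ⟨g, -, rfl⟩ := horbit μ lam hμ1 hlam
    exact linConj_pow g μ (hμ ▸ pow_orderOf_eq_one μ)
  have hW : Nat.card (Additive (D →* ℂˣ)) = p ^ r := hcardW
  haveI : Finite (Additive (D →* ℂˣ)) :=
    Nat.finite_of_card_ne_zero (hW ▸ pow_ne_zero r hp.ne_zero)
  let act : G → AddMonoid.End (Additive (D →* ℂˣ)) := fun g =>
    { toFun := fun w : (Additive (D →* ℂˣ)) => Additive.ofMul (linConj g⁻¹ w.toMul)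
      map_zero' := congrArg Additive.ofMul (MonoidHom.ext fun v => rfl)
      map_add' := fun x y => congrArg Additive.ofMul (MonoidHom.ext fun v => rfl) }
  have hact : ∀ (g : G) (w : (Additive (D →* ℂˣ))), act g w = Additive.ofMul (linConj g⁻¹ w.toMul) := fun g w => rfl
  have hcm : ∀ (g k : G) (lam : D →* ℂˣ), linConj g (linConj k lam) = linConj (k * g) lam := by
    intro g k lam
    refine MonoidHom.ext fun v => ?_
    simp only [linConj_apply]
    rw [map_mul, MulAut.mul_apply]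
  have hc1 : ∀ lam : D →* ℂˣ, linConj (1 : G) lam = lam := fun lam => MonoidHom.ext fun v => by
    rw [linConj_apply, map_one, MulAut.one_apply]
  let ρT : T →* AddMonoid.End (Additive (D →* ℂˣ)) :=
    { toFun := fun t => act t
      map_one' := AddMonoidHom.ext fun w => by
        show act ((1 : T) : G) w = w
        rw [hact, OneMemClass.coe_one, inv_one, hc1]; rfl
      map_mul' := fun s t => AddMonoidHom.ext fun w => by
        show act ((s * t : T) : G) w = act (s : G) (act (t : G) w)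
        rw [hact, hact, hact, toMul_ofMul, hcm, Subgroup.coe_mul, mul_inv_rev] }
  have hLfix : ∀ g ∈ L, ∀ lam : D →* ℂˣ, linConj g lam = lam := by
    intro g hg lam
    refine MonoidHom.ext fun u => ?_
    rw [linConj_apply]
    congr 1
    have hg' : g ∈ D ⊔ Subgroup.centralizer (D : Set G) := h.eq_sup ▸ hg
    obtain ⟨v, hv, c, hc, rfl⟩ := Subgroup.mem_sup_of_normal_left.1 hg'
    refine Subtype.ext ?_
    rw [MulAut.conjNormal_apply]
    have hcu := Subgroup.mem_centralizer_iff.1 hc (u : G) u.2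
    calc v * c * u * (v * c)⁻¹ = v * (c * u) * c⁻¹ * v⁻¹ := by group
      _ = v * (u * c) * c⁻¹ * v⁻¹ := by rw [hcu]
      _ = v * u * v⁻¹ := by group
      _ = u := by rw [hab v hv u u.2, mul_inv_cancel_right]
  set LT := L.subgroupOf T
  haveI : LT.Normal := Subgroup.normal_subgroupOf
  haveI : Fintype LT := Fintype.ofFinite LT
  let ρ : T ⧸ LT →* AddMonoid.End (Additive (D →* ℂˣ)) := QuotientGroup.lift LT ρT fun t ht =>
    MonoidHom.mem_ker.2 (AddMonoidHom.ext fun w => by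
      show act t w = w
      rw [hact, hLfix _ (L.inv_mem (Subgroup.mem_subgroupOf.1 ht))]
      rfl)
  have hρmk : ∀ t : T, ρ (t : T ⧸ LT) = act t := fun t => rfl
  have hρ : Function.Injective ρ := by
    refine (injective_iff_map_eq_one ρ).2 fun e he => ?_
    obtain ⟨t, rfl⟩ := QuotientGroup.mk_surjective e
    rw [QuotientGroup.eq_one_iff, Subgroup.mem_subgroupOf]
    have hfix : ∀ lam : D →* ℂˣ, linConj (t : G)⁻¹ lam = lam := fun lam =>
      Additive.ofMul.injective (DFunLike.congr_fun he (Additive.ofMul lam))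
    refine inv_mem_iff.1 (h.centralizer_le (Subgroup.mem_centralizer_iff.2 fun v hv => ?_))
    have h1 : MulAut.conjNormal (t : G)⁻¹ (⟨v, hv⟩ : D) = ⟨v, hv⟩ := by
      by_contra hne
      obtain ⟨lam, hlam⟩ := CommGroup.exists_apply_ne_one_of_hasEnoughRootsOfUnity D ℂ
        (fun e : MulAut.conjNormal (t : G)⁻¹ (⟨v, hv⟩ : D) * (⟨v, hv⟩ : D)⁻¹ = 1 =>
          hne (mul_inv_eq_one.1 e))
      refine hlam ?_
      have e := DFunLike.congr_fun (hfix lam) (⟨v, hv⟩ : D)
      rw [linConj_apply] at e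
      rw [MonoidHom.map_mul, e, ← MonoidHom.map_mul, mul_inv_cancel, MonoidHom.map_one]
    have h2 := congrArg Subtype.val h1
    rw [MulAut.conjNormal_apply] at h2
    exact (mul_inv_eq_iff_eq_mul.1 h2).symm
  have htr : ∀ v w : (Additive (D →* ℂˣ)), v ≠ 0 → w ≠ 0 → ∃ e : T ⧸ LT, ρ e v = w := by
    intro v w hv hw
    obtain ⟨g, hgT, hg⟩ := horbit v.toMul w.toMul
      (fun e => hv (toMul_eq_one.1 e)) (fun e => hw (toMul_eq_one.1 e))
    refine ⟨((⟨g⁻¹, T.inv_mem hgT⟩ : T) : T ⧸ LT), ?_⟩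
    rw [hρmk, hact, inv_inv, hg]
    rfl
  -- the order of the quotient
  haveI : Nontrivial (Additive (D →* ℂˣ)) := Finite.one_lt_card_iff_nontrivial.1 (hW ▸ Nat.one_lt_pow (by omega) hp.one_lt)
  obtain ⟨w, hw⟩ := exists_ne (0 : (Additive (D →* ℂˣ)))
  set lam := w.toMul
  have hlam : lam ≠ 1 := fun e => hw (toMul_eq_one.1 e)
  set I := inertia L (φ lam : L → ℂ)
  have hIT : I ≤ T := inertia_le_stab L T h.root.1 h.stab (hφb lam)
  choose m hm using fun χ : IrrCharacter G =>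
    IsCharacter.exists_nat_classInner
      (CfsgLib.Clifford.isCharacter_res (IsIrrCharacter.isCharacter χ.2) L) (φ lam).2
  have hsum := index_eq_inertia_index_mul_sum_sq L (φ lam) hm
  rw [Finset.sum_eq_single χ₃ (fun χ _ hne => by
    have : m χ = 0 := by_contra fun h0 => hne (hχ3 lam χ hlam (by rw [hm]; exact_mod_cast h0))
    rw [this, zero_pow two_ne_zero]) (by simp)] at hsum
  rw [← Subgroup.relIndex_mul_index hLT, ← Subgroup.relIndex_mul_index hIT] at hsum
  have hrel : L.relIndex T = I.relIndex T * m χ₃ ^ 2 :=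
    Nat.eq_of_mul_eq_mul_right (Nat.pos_of_ne_zero (Subgroup.index_ne_zero_of_finite (H := T)))
      (by rw [hsum]; ring)
  have hstab : Nat.card (T ⧸ LT) = (p ^ r - 1) * m χ₃ ^ 2 := by
    rw [← Subgroup.index_eq_card]
    show L.relIndex T = _
    rw [hrel]
    congr 1
    letI : MulAction T (Additive (D →* ℂˣ)) :=
      { smul := fun t x => ρT t x
        one_smul := fun x => by show ρT 1 x = x; rw [map_one]; rfl
        mul_smul := fun s t x => by show ρT (s * t) x = ρT s (ρT t x); rw [map_mul]; rfl }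
    have hSI : MulAction.stabilizer T w = I.subgroupOf T := by
      ext t
      rw [MulAction.mem_stabilizer_iff, Subgroup.mem_subgroupOf]
      show act t w = w ↔ _
      rw [hact]
      constructor
      · intro e
        have e' : linConj (t : G)⁻¹ lam = lam := congrArg Additive.toMul e
        refine inv_mem_iff.1 (mem_inertia.2 ?_)
        rw [hconj2 lam _ (T.inv_mem t.2), e']
      · intro e
        have e' := hconj1 lam lam _ (mem_inertia.1 (inv_mem e))
        exact congrArg Additive.ofMul e'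
    show (I.subgroupOf T).index = _
    rw [← hSI, MulAction.index_stabilizer]
    have horb : MulAction.orbit T w = {x | x ≠ 0} := by
      ext x
      constructor
      · rintro ⟨t, rfl⟩ e
        refine hw ?_
        rw [← inv_smul_smul t w, show t • w = 0 from e]
        exact map_zero (ρT t⁻¹)
      · intro hx
        obtain ⟨e, he⟩ := htr w x hw hx
        obtain ⟨t, rfl⟩ := QuotientGroup.mk_surjective e
        exact ⟨t, he⟩
    rw [horb]
    have := Fintype.ofFinite (Additive (D →* ℂˣ))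
    rw [Set.ncard_eq_toFinset_card', show ({x | x ≠ 0} : Set (Additive (D →* ℂˣ))).toFinset = Finset.univ.erase 0 by
      ext; simp, Finset.card_erase_of_mem (Finset.mem_univ _), Finset.card_univ,
      ← Nat.card_eq_fintype_card, hW]
  have hm0 : 0 < m χ₃ := Nat.pos_of_ne_zero fun e => by
    rw [e] at hstab
    simp at hstab
  -- the characters of the stabiliser over `θ`
  set θ' := CliffordOver.trans L T hLT (θ : L → ℂ)
  have hθ' : IsIrrCharacter LT θ' := CliffordOver.isIrrCharacter_trans L T hLT θ.2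
  have hinv' : ∀ t, conjFun LT θ' t = θ' := fun t => mem_inertia.1 (by
    rw [CliffordOver.inertia_trans, Subgroup.mem_subgroupOf, h.inert]
    exact t.2)
  have hT' : ∀ g : G, g ∈ T ↔ conjFun L (θ : L → ℂ) g = θ := fun g => h.inert ▸ mem_inertia
  obtain ⟨η₁, hη₁, he₁, hc₁⟩ := CfsgLib.Clifford.exists_indFun_eq L T hLT θ.2 hT' ψ₁.2
    ((hoverθ ψ₁).2 (Or.inl rfl))
  obtain ⟨η₂, hη₂, he₂, hc₂⟩ := CfsgLib.Clifford.exists_indFun_eq L T hLT θ.2 hT' ψ₂.2
    ((hoverθ ψ₂).2 (Or.inr rfl))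
  have hd₁ : classInner (fun n : L => η₁ ⟨n, hLT n.2⟩) (θ : L → ℂ) ≠ 0 :=
    hc₁ ▸ (hoverθ ψ₁).2 (Or.inl rfl)
  have hd₂ : classInner (fun n : L => η₂ ⟨n, hLT n.2⟩) (θ : L → ℂ) ≠ 0 :=
    hc₂ ▸ (hoverθ ψ₂).2 (Or.inr rfl)
  have hover' : ∀ χ : IrrCharacter T, classInner (fun n : LT => (χ : T → ℂ) n) θ' ≠ 0 ↔
      χ = ⟨η₁, hη₁⟩ ∨ χ = ⟨η₂, hη₂⟩ := by
    intro χ
    rw [CliffordOver.classInner_trans]
    constructor
    · intro hc
      obtain ⟨hirr, -, hover⟩ := CliffordOver.isIrrCharacter_indFun L T hLT θ.2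
        (le_of_eq h.inert) χ.2 hc
      rcases (hoverθ ⟨_, hirr⟩).1 hover with e | e
      · exact Or.inl (Subtype.ext (CfsgLib.Clifford.indFun_injective L T hLT θ.2 hT' χ.2 hη₁ hc hd₁
          ((congrArg Subtype.val e).trans he₁.symm)))
      · exact Or.inr (Subtype.ext (CfsgLib.Clifford.indFun_injective L T hLT θ.2 hT' χ.2 hη₂ hc hd₂
          ((congrArg Subtype.val e).trans he₂.symm)))
    · rintro (rfl | rfl)
      · exact hd₁
      · exact hd₂
  have hη12 : (⟨η₁, hη₁⟩ : IrrCharacter T) ≠ ⟨η₂, hη₂⟩ := fun e => h12 (Subtype.ext (by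
    rw [← he₁, ← he₂, show η₁ = η₂ from congrArg Subtype.val e]))
  have hconjE := isConj_of_cyclic LT hθ' hinv' hη12 hover'
  have hnorm := fun q hq hq2 hC hpw => norm_condition LT hθ' hinv' hη12 hover' q hq hq2 hC hpw
  exact false_of_addAction (fun x => hexp x.toMul) (fun e => ρ e)
    (fun x => by rw [map_one]; rfl) (fun s t x => by rw [map_mul]; rfl)
    (fun e he => hρ (by rw [map_one]; exact AddMonoidHom.ext he)) hp2 hr hW hm0 hstab htr hconjE hnorm

omit [Fintype G] [M.IsMaximal] [D.Normal] [L.Normal] [Fintype L] in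
/-- A block with three characters and an abelian normal defect group: the latter is cyclic. -/
theorem isCyclic_of_three (hM : IsPModular p M) (hB : IsPBlock M B) [D.Normal]
    (hD : IsDefectGroup p M B D) (hab : ∀ a ∈ D, ∀ c ∈ D, a * c = c * a)
    (hk : Nat.card B = 3) : IsCyclic D := by
  classical
  haveI := hM.2.1
  have hp : p.Prime := Fact.out
  by_cases hp2 : p = 2
  · haveI : Subsingleton D := (Nat.card_eq_one_iff_unique.1 (card_eq_one_of_two hM hB hD hk
      (fun χ hχ => height_zero_of_abelian_normal hM hB hD hab hχ) hp2)).1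
    infer_instance
  letI := Fintype.ofFinite G
  obtain ⟨r, hr⟩ := IsPGroup.iff_card.1 (isPGroup_defectGroup hD)
  rcases Nat.lt_or_ge r 2 with hr1 | hr1
  · rcases Nat.eq_zero_or_pos r with h0 | h0
    · haveI : Subsingleton D := (Nat.card_eq_one_iff_unique.1 (by rw [hr, h0, pow_zero])).1
      infer_instance
    · exact isCyclic_of_prime_card (p := p) (by rw [hr, show r = 1 by omega, pow_one])
  exfalso
  haveI : (Subgroup.centralizer (D : Set G)).Normal := Subgroup.normal_centralizer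
  set L := D ⊔ Subgroup.centralizer (D : Set G) with hLdef
  haveI : L.Normal := Subgroup.sup_normal _ _
  haveI := Fintype.ofFinite L
  obtain ⟨b, θ, T, h⟩ := exists_rootData hM hB hD hLdef
  haveI := Fintype.ofFinite B
  set O := B.toFinset.filter fun χ : IrrCharacter G =>
    classInner (fun n : L => (χ : G → ℂ) n) (θ : L → ℂ) ≠ 0 with hO
  have hmemO : ∀ χ : IrrCharacter G,
      χ ∈ O ↔ classInner (fun n : L => (χ : G → ℂ) n) (θ : L → ℂ) ≠ 0 := fun χ => by
    rw [hO, Finset.mem_filter, Set.mem_toFinset]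
    exact ⟨fun e => e.2, fun e => ⟨h.over h.mem e, e⟩⟩
  have hO3 : O.card ≤ 3 := by
    rw [← hk, Nat.card_eq_fintype_card, ← Set.toFinset_card]
    exact Finset.card_filter_le _ _
  obtain ⟨χ₀, hχ₀⟩ := exists_over_constituent L θ
  have hO0 : O.card ≠ 0 := Finset.card_ne_zero_of_mem ((hmemO χ₀).2 hχ₀)
  have hcases : O.card = 1 ∨ O.card = 2 ∨ O.card = 3 := by omega
  rcases hcases with h1 | h2 | h3
  · obtain ⟨ψ, hψ⟩ := Finset.card_eq_one.1 h1
    have hψO := (hmemO ψ).1 (by rw [hψ]; simp)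
    have hl := blockRank_eq_one_of_unique D hM hB (isPGroup_defectGroup hD) hab
      (h.over h.mem hψO) fun χ hχ hV => by
        have := (hmemO χ).2 (over_of_trivial h hχ hV)
        rw [hψ, Finset.mem_singleton] at this
        exact this
    have hD1 : D ≠ ⊥ := fun e => by
      rw [e, Subgroup.card_bot] at hr
      exact absurd hr.symm (Nat.one_lt_pow (by omega) hp.one_lt).ne'
    have h3 := (Cfsg.Agent.S4648.result p M hM B hB D hD hD1 hl (by omega)).2.1
    rw [hk, hr] at h3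
    have : p ^ 2 ≤ p ^ r := Nat.pow_le_pow_right hp.pos hr1
    have := hp.two_le
    nlinarith
  · obtain ⟨ψ₁, ψ₂, h12, he⟩ := Finset.card_eq_two.1 h2
    have hOB : O ⊆ B.toFinset := Finset.filter_subset _ _
    have hc : (B.toFinset \ O).card = 1 := by
      rw [Finset.card_sdiff_of_subset hOB, Set.toFinset_card, ← Nat.card_eq_fintype_card, hk, h2]
    obtain ⟨χ₃, hχ₃⟩ := Finset.card_eq_one.1 hc
    refine false_of_two h hp2 hab hr1 hr h12 (χ₃ := χ₃) (fun χ => by rw [← hmemO, he]; simp) ?_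
    intro χ hχ
    by_cases hχO : χ ∈ O
    · rw [he] at hχO
      rcases Finset.mem_insert.1 hχO with e | e
      · exact Or.inl e
      · exact Or.inr (Or.inl (Finset.mem_singleton.1 e))
    · have : χ ∈ B.toFinset \ O := Finset.mem_sdiff.2 ⟨Set.mem_toFinset.2 hχ, hχO⟩
      rw [hχ₃, Finset.mem_singleton] at this
      exact Or.inr (Or.inr this)
  · have hall : O = B.toFinset := Finset.eq_of_subset_of_card_le (Finset.filter_subset _ _) (by
      rw [Set.toFinset_card, ← Nat.card_eq_fintype_card, hk, h3])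
    haveI : IsMulCommutative D := ⟨⟨fun a c => Subtype.ext (hab a a.2 c c.2)⟩⟩
    letI : CommGroup D := { (inferInstance : Group D) with
      mul_comm := fun a c => Subtype.ext (hab a a.2 c c.2) }
    haveI : NeZero (Monoid.exponent D) := ⟨Monoid.exponent_ne_zero_of_finite⟩
    have hDne : Nontrivial D :=
      Finite.one_lt_card_iff_nontrivial.1 (hr ▸ Nat.one_lt_pow (by omega) hp.one_lt)
    obtain ⟨v, hv⟩ := exists_ne (1 : D)
    obtain ⟨lam, hlam⟩ := CommGroup.exists_apply_ne_one_of_hasEnoughRootsOfUnity D ℂ hv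
    obtain ⟨N, hN⟩ := exists_goodExp hp (Nat.card_pos (α := G)).ne'
    obtain ⟨φ, hφb, hφ⟩ := h.exists_linear lam hN
    obtain ⟨χ, hχ⟩ := exists_over_constituent L φ
    have hχθ : classInner (fun n : L => (χ : G → ℂ) n) (θ : L → ℂ) ≠ 0 := (hmemO χ).1 (by
      rw [hall, Set.mem_toFinset]; exact h.over hφb hχ)
    obtain ⟨g, hg⟩ := CfsgLib.Clifford.exists_conjFun_eq L χ.2 θ.2 φ.2 hχθ hχ
    refine hlam (Units.ext (mul_right_cancel₀ (IsIrrCharacter.apply_one_ne_zero θ.2) ?_))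
    have e := congrFun hg ⟨(v : G), h.le v.2⟩
    obtain ⟨k, hk'⟩ := card_eq_pow_orderOf h.isPGroup v.2
    have hvN : (v : G) ^ N = v := hN.pow_pElement hk'
    rw [hφ, extendByZero_apply_mem D _ (by rw [hvN]; exact v.2),
      h.triv ⟨(v : G), h.le v.2⟩ (Subgroup.mem_subgroupOf.2 v.2)] at e
    rw [Units.val_one, one_mul, show lam v = lam ⟨(v : G) ^ N, by rw [hvN]; exact v.2⟩ from
      congrArg lam (Subtype.ext hvN.symm), ← e]
    exact h.triv ⟨g * (v : G) * g⁻¹, ‹L.Normal›.conj_mem _ (h.le v.2) g⟩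
      (Subgroup.mem_subgroupOf.2 (‹D.Normal›.conj_mem _ v.2 g))

end CfsgLib.KThree
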