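import Cfsg.Agent.Lib.KThree.Irreducible
import Cfsg.Agent.Lib.KThree.Arith
import Cfsg.Agent.Lib.Zsigmondy.Basic
import Mathlib.GroupTheory.Sylow
import Mathlib.NumberTheory.LegendreSymbol.Basic
import Mathlib.GroupTheory.GroupAction.Quotient
import Mathlib.Data.Nat.GCD.Basic
import Mathlib.Algebra.Group.Subgroup.Finite

/-!
# Coprime linear groups, transitive on nonzero vectors, with few projective characters
-/

set_option autoImplicit false
set_option linter.style.haveILetI false
set_option maxHeartbeats 1000000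

namespace CfsgLib.KThree

variable {p : ℕ} [Fact p.Prime] {E W : Type*} [Group E] [AddCommGroup W]
  [Module (ZMod p) W]

/-- The action of a linear representation. -/
@[reducible] def rhoAction (ρ : E →* Module.End (ZMod p) W) : MulAction E W where
  smul g w := ρ g w
  one_smul w := by show ρ 1 w = w; rw [map_one]; rfl
  mul_smul g h w := by show ρ (g * h) w = ρ g (ρ h w); rw [map_mul]; rfl

variable [Finite E] [Finite W] (ρ : E →* Module.End (ZMod p) W)

omit [Finite E] in
theorem card_submodule (U : Submodule (ZMod p) W) :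
    Nat.card U = p ^ Module.finrank (ZMod p) U := by
  rw [Module.natCard_eq_pow_finrank (K := ZMod p), Nat.card_zmod]

theorem modEq_fixed {ℓ : ℕ} [Fact ℓ.Prime] {q : E} (hq : orderOf q = ℓ)
    (U : Submodule (ZMod p) W) (hU : ∀ u ∈ U, ρ q u ∈ U) :
    p ^ Module.finrank (ZMod p) U ≡
      p ^ Module.finrank (ZMod p) (U ⊓ LinearMap.ker (ρ q - 1) : Submodule (ZMod p) W) [MOD ℓ] := by
  classical
  letI := rhoAction ρ
  have hpow : ∀ (n : ℕ) (u : W), u ∈ U → ρ (q ^ n) u ∈ U := by
    intro n
    induction n with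
    | zero => intro u hu; simpa using hu
    | succ n ih =>
      intro u hu
      rw [pow_succ', map_mul]
      exact hU _ (ih u hu)
  have hmem : ∀ g ∈ Subgroup.zpowers q, ∀ u ∈ U, ρ g u ∈ U := by
    intro g hg u hu
    obtain ⟨n, rfl⟩ := (mem_powers_iff_mem_zpowers.2 hg)
    exact hpow n u hu
  letI : MulAction (Subgroup.zpowers q) U :=
    { smul := fun g u => ⟨ρ (g : E) u, hmem g g.2 u u.2⟩
      one_smul := fun u => Subtype.ext (one_smul E (u : W))
      mul_smul := fun g h u => Subtype.ext (mul_smul (g : E) (h : E) (u : W)) }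
  have hP : IsPGroup ℓ (Subgroup.zpowers q) :=
    IsPGroup.of_card (n := 1) (by rw [Nat.card_zpowers, hq, pow_one])
  have h := hP.card_modEq_card_fixedPoints U
  rw [card_submodule U] at h
  refine h.trans (Eq.subst (motive := fun n => _ ≡ n [MOD ℓ]) ?_ (Nat.ModEq.refl _))
  rw [← card_submodule]
  refine Nat.card_congr
    { toFun := fun u => ⟨(u.1 : W), u.1.2, ?_⟩
      invFun := fun w => ⟨⟨w.1, w.2.1⟩, fun g => ?_⟩
      left_inv := fun u => rfl
      right_inv := fun w => rfl }
  · have h1 : ρ q (u.1 : W) = (u.1 : W) :=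
      congrArg Subtype.val (u.2 ⟨q, Subgroup.mem_zpowers q⟩)
    show _ ∈ LinearMap.ker _
    rw [LinearMap.mem_ker, LinearMap.sub_apply, h1, Module.End.one_apply, sub_self]
  · obtain ⟨n, hn⟩ := (mem_powers_iff_mem_zpowers.2 g.2)
    refine Subtype.ext ?_
    show ρ (g : E) w.1 = w.1
    have h1 : ρ q w.1 = w.1 := by
      have := LinearMap.mem_ker.1 w.2.2
      rwa [LinearMap.sub_apply, Module.End.one_apply, sub_eq_zero] at this
    rw [← hn]
    clear hn
    induction n with
    | zero => simp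
    | succ n ih =>
      show ρ (q ^ (n + 1)) w.1 = w.1
      rw [pow_succ', map_mul, Module.End.mul_apply, ih, h1]

/-- An element whose order is a primitive prime divisor acts irreducibly. -/
theorem irr_of_primitive (hρ : Function.Injective ρ) {r : ℕ} (hW : Nat.card W = p ^ r) {ℓ : ℕ}
    [Fact ℓ.Prime] (hℓp : ℓ ≠ p) (hprim : ∀ k : ℕ, 0 < k → k < r → ¬ ℓ ∣ p ^ k - 1)
    {q : E} (hq : orderOf q = ℓ) : Irr (ρ q) := by
  have hp : p.Prime := Fact.out
  have hℓ : ℓ.Prime := Fact.out
  have hrank : Module.finrank (ZMod p) W = r := by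
    have h := Module.natCard_eq_pow_finrank (K := ZMod p) (V := W)
    rw [hW, Nat.card_zmod] at h
    exact (Nat.pow_right_injective hp.two_le h).symm
  have key : ∀ a b : ℕ, b ≤ a → a ≤ r → p ^ a ≡ p ^ b [MOD ℓ] → a = b ∨ (a = r ∧ b = 0) := by
    intro a b hba har h
    by_contra hne
    push Not at hne
    refine hprim (a - b) (by omega) (by omega) ?_
    have h1 := (Nat.modEq_iff_dvd' (Nat.pow_le_pow_right hp.pos hba)).1 h.symm
    rw [show p ^ a - p ^ b = p ^ b * (p ^ (a - b) - 1) by
      rw [Nat.mul_sub, mul_one, ← pow_add, Nat.add_sub_cancel' hba]] at h1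
    exact (hℓ.dvd_mul.1 h1).resolve_left fun h2 =>
      hℓp ((Nat.prime_dvd_prime_iff_eq hℓ hp).1 (hℓ.dvd_of_dvd_pow h2))
  set F := LinearMap.ker (ρ q - 1) with hF
  have hFbot : F = ⊥ := by
    have h := modEq_fixed ρ hq ⊤ fun _ _ => Submodule.mem_top
    rw [finrank_top, hrank, top_inf_eq] at h
    rcases key r _ (hrank ▸ Submodule.finrank_le F) le_rfl h with h1 | ⟨-, h1⟩
    · have h2 : F = ⊤ := Submodule.eq_top_of_finrank_eq (by rw [hrank, ← h1])
      have h3 : ρ q = ρ 1 := by
        rw [map_one]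
        exact sub_eq_zero.1 (LinearMap.ker_eq_top.1 h2)
      rw [hρ h3, orderOf_one] at hq
      exact absurd hq.symm hℓ.ne_one
    · exact Submodule.finrank_eq_zero.1 h1
  intro U hU
  have h := modEq_fixed ρ hq U hU
  rw [← hF, hFbot, inf_bot_eq, finrank_bot] at h
  rcases key _ 0 (Nat.zero_le _) (hrank ▸ Submodule.finrank_le U) h with h1 | ⟨h1, -⟩
  · exact Or.inl (Submodule.finrank_eq_zero.1 h1)
  · exact Or.inr (Submodule.eq_top_of_finrank_eq (h1.trans hrank.symm))

theorem Irr.ne_one (hρ : Function.Injective ρ) {r : ℕ} (hW : Nat.card W = p ^ r) (hr : 2 ≤ r)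
    {q : E} (hS : Irr (ρ q)) : q ≠ 1 := by
  rintro rfl
  have hp : p.Prime := Fact.out
  haveI : Nontrivial W := Finite.one_lt_card_iff_nontrivial.1 (hW ▸ Nat.one_lt_pow (by omega) hp.one_lt)
  obtain ⟨v, hv⟩ := exists_ne (0 : W)
  rcases hS (Submodule.span (ZMod p) {v}) (fun u hu => by rw [map_one]; exact hu) with h | h
  · exact hv (Submodule.span_singleton_eq_bot.1 h)
  · have h1 := finrank_span_singleton (K := ZMod p) hv
    rw [h, finrank_top] at h1
    have h2 := Module.natCard_eq_pow_finrank (K := ZMod p) (V := W)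
    rw [hW, Nat.card_zmod, h1] at h2
    have := Nat.pow_right_injective hp.two_le h2
    omega

/-- The orbit–stabiliser relation. -/
theorem card_stabilizer_mul (htr : ∀ v w : W, v ≠ 0 → w ≠ 0 → ∃ g : E, ρ g v = w) {v : W}
    (hv : v ≠ 0) :
    (letI := rhoAction ρ; Nat.card (MulAction.stabilizer E v)) * (Nat.card W - 1) = Nat.card E := by
  classical
  letI := rhoAction ρ
  have horb : MulAction.orbit E v = {w | w ≠ 0} := by
    ext w
    constructor
    · rintro ⟨g, rfl⟩ h
      refine hv ?_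
      rw [← inv_smul_smul g v, show g • v = 0 from h]
      exact map_zero (ρ g⁻¹)
    · intro hw
      obtain ⟨g, hg⟩ := htr v w hv hw
      exact ⟨g, hg⟩
  rw [← Subgroup.card_mul_index (MulAction.stabilizer E v), MulAction.index_stabilizer, horb]
  congr 1
  have := Fintype.ofFinite W
  rw [Set.ncard_eq_toFinset_card', Nat.card_eq_fintype_card]
  have : ({w | w ≠ 0} : Set W).toFinset = Finset.univ.erase 0 := by ext; simp
  rw [this, Finset.card_erase_of_mem (Finset.mem_univ _), Finset.card_univ]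

variable {r m : ℕ}

/-- For `r` a power of two some element acts as `-1`. -/
theorem exists_neg_one (hρ : Function.Injective ρ) (hp2 : p ≠ 2) (hW : Nat.card W = p ^ r)
    (hcard : Nat.card E = (p ^ r - 1) * m ^ 2)
    (htr : ∀ v w : W, v ≠ 0 → w ≠ 0 → ∃ g : E, ρ g v = w) {v : ℕ} (hrv : r = 2 ^ (v + 1)) :
    ∃ t : E, ρ t = -1 := by
  classical
  have hp : p.Prime := Fact.out
  have hp3 : 3 ≤ p := by have := hp.two_le; omega
  letI := rhoAction ρ
  haveI : Fact (Nat.Prime 2) := ⟨Nat.prime_two⟩
  set P : Sylow 2 E := default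
  have hodd : ∀ n : ℕ, Odd (p ^ n) := fun n => (hp.odd_of_ne_two hp2).pow
  have h2E : 2 ∣ Nat.card E := by
    rw [hcard]
    refine Dvd.dvd.mul_right ?_ _
    obtain ⟨u, hu⟩ := hodd r
    rw [hu, Nat.add_sub_cancel]
    exact dvd_mul_right 2 u
  have hPne : Nontrivial (P : Subgroup E) :=
    Finite.one_lt_card_iff_nontrivial.1 (Nat.lt_of_lt_of_le one_lt_two
      (Nat.le_of_dvd Nat.card_pos (P.dvd_card_of_dvd_card h2E)))
  haveI := P.2.center_nontrivial
  obtain ⟨z, hz⟩ : ∃ z : Subgroup.center (P : Subgroup E), orderOf z = 2 := by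
    refine exists_prime_orderOf_dvd_card' 2 ?_
    obtain ⟨n, hn⟩ := IsPGroup.iff_card.1 (P.2.to_subgroup (Subgroup.center (P : Subgroup E)))
    rcases Nat.eq_zero_or_pos n with h0 | h0
    · have := Finite.one_lt_card (α := Subgroup.center (P : Subgroup E))
      rw [hn, h0, pow_zero] at this
      exact absurd this (lt_irrefl 1)
    · rw [hn]; exact dvd_pow_self 2 h0.ne'
  set t : E := ((z : (P : Subgroup E)) : E) with ht
  have ht2 : ρ t * ρ t = 1 := by
    rw [← map_mul, ← map_one ρ]
    congr 1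
    have := congrArg (fun y : Subgroup.center (P : Subgroup E) => ((y : (P : Subgroup E)) : E))
      (orderOf_dvd_iff_pow_eq_one.1 hz.dvd)
    simpa [sq] using this
  have ht1 : ρ t ≠ 1 := fun h => by
    have h1 : t = 1 := hρ (h.trans (map_one ρ).symm)
    have h2 : z = 1 := Subtype.ext (Subtype.ext h1)
    rw [h2, orderOf_one] at hz
    exact absurd hz (by norm_num)
  refine ⟨t, ?_⟩
  by_contra hneg
  -- the fixed space
  let U : Submodule (ZMod p) W := LinearMap.ker (ρ t - 1)
  have hUmem : ∀ u, u ∈ U ↔ ρ t u = u := fun u => by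
    rw [LinearMap.mem_ker, LinearMap.sub_apply, Module.End.one_apply, sub_eq_zero]
  have hUbot : U ≠ ⊥ := by
    intro h
    refine hneg (LinearMap.ext fun w => ?_)
    have h1 : ρ t w + w ∈ U := by
      rw [hUmem, map_add, ← Module.End.mul_apply, ht2, Module.End.one_apply, add_comm]
    rw [h, Submodule.mem_bot] at h1
    rw [LinearMap.neg_apply, Module.End.one_apply]
    exact eq_neg_of_add_eq_zero_left h1
  have hUtop : U ≠ ⊤ := fun h => ht1 (LinearMap.ext fun w => by
    rw [Module.End.one_apply]; exact (hUmem w).1 (h ▸ Submodule.mem_top))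
  set c := Module.finrank (ZMod p) U
  have hc0 : c ≠ 0 := fun h => hUbot (Submodule.finrank_eq_zero.1 h)
  have hrank : Module.finrank (ZMod p) W = r := by
    have h := Module.natCard_eq_pow_finrank (K := ZMod p) (V := W)
    rw [hW, Nat.card_zmod] at h
    exact (Nat.pow_right_injective hp.two_le h).symm
  have hcr : c < r := hrank ▸ Submodule.finrank_lt hUtop
  -- the Sylow group on the fixed space
  have hmem : ∀ g ∈ (P : Subgroup E), ∀ u ∈ U, ρ g u ∈ U := by
    intro g hg u hu
    rw [hUmem] at hu ⊢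
    have hcom : t * g = g * t := congrArg Subtype.val
      (Subgroup.mem_center_iff.1 z.2 ⟨g, hg⟩).symm
    rw [← Module.End.mul_apply, ← map_mul, hcom, map_mul, Module.End.mul_apply, hu]
  let Y := {u : W // u ∈ U ∧ u ≠ 0}
  letI : MulAction (P : Subgroup E) Y :=
    { smul := fun g u => ⟨ρ (g : E) u.1, hmem g g.2 _ u.2.1, fun h => u.2.2 (by
        rw [← inv_smul_smul (g : E) u.1, show (g : E) • u.1 = 0 from h]
        exact map_zero (ρ (g : E)⁻¹))⟩
      one_smul := fun u => Subtype.ext (one_smul E u.1)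
      mul_smul := fun g h u => Subtype.ext (mul_smul (g : E) (h : E) u.1) }
  set N := p ^ r - 1 with hN
  have hN0 : N ≠ 0 := by
    have := Nat.one_lt_pow (show r ≠ 0 by omega) hp.one_lt
    omega
  have hm0 : m ≠ 0 := by
    intro h; rw [h] at hcard; simp at hcard
    exact absurd hcard Nat.card_pos.ne'
  -- every orbit length is divisible by the two-part of `N`
  set a := N.factorization 2 with ha
  have horb : ∀ y : Y, 2 ^ a ∣ (MulAction.orbit (P : Subgroup E) y).ncard := by
    intro y
    rw [← MulAction.index_stabilizer]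
    set S := MulAction.stabilizer (P : Subgroup E) y
    obtain ⟨i, -, hi⟩ := (Nat.dvd_prime_pow Nat.prime_two).1
      ((Subgroup.index_dvd_card S).trans (dvd_of_eq P.card_eq_multiplicity))
    obtain ⟨j, -, hj⟩ := (Nat.dvd_prime_pow Nat.prime_two).1
      ((Subgroup.card_subgroup_dvd_card S).trans (dvd_of_eq P.card_eq_multiplicity))
    have hij : (Nat.card E).factorization 2 = j + i := by
      have h := Subgroup.card_mul_index S
      rw [hi, hj, P.card_eq_multiplicity, ← pow_add] at h
      exact (Nat.pow_right_injective le_rfl h).symm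
    have hjm : j ≤ (m ^ 2).factorization 2 := by
      refine (Nat.prime_two.pow_dvd_iff_le_factorization (pow_ne_zero 2 hm0)).1 ?_
      have h := card_stabilizer_mul ρ htr y.2.2
      rw [hW, hcard] at h
      rw [← hj, ← Nat.eq_of_mul_eq_mul_left (Nat.pos_of_ne_zero hN0) (by rw [← h]; ring :
        N * Nat.card (MulAction.stabilizer E y.1) = N * m ^ 2)]
      refine Subgroup.card_dvd_of_injective
        (((P : Subgroup E).subtype.comp S.subtype).codRestrict
          (MulAction.stabilizer E y.1) fun g => congrArg Subtype.val g.2) ?_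
      exact fun g h hgh => Subtype.ext (Subtype.ext (congrArg Subtype.val hgh :))
    rw [hi]
    refine Nat.pow_dvd_pow 2 ?_
    rw [hcard, Nat.factorization_mul hN0 (pow_ne_zero 2 hm0), Finsupp.add_apply] at hij
    omega
  have hY : 2 ^ a ∣ Nat.card Y := by
    haveI := Fintype.ofFinite Y
    rw [Nat.card_congr (MulAction.selfEquivSigmaOrbits (P : Subgroup E) Y)]
    have := Fintype.ofFinite (Quotient (MulAction.orbitRel (P : Subgroup E) Y))
    rw [Nat.card_sigma]
    exact Finset.dvd_sum fun o _ => by rw [Nat.card_coe_set_eq]; exact horb _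
  have hYc : Nat.card Y = p ^ c - 1 := by
    have := Fintype.ofFinite U
    rw [← card_submodule U, Nat.card_eq_fintype_card (α := U)]
    rw [← Finset.card_univ, ← Finset.card_erase_of_mem (Finset.mem_univ (0 : U)),
      ← Nat.card_eq_finsetCard]
    refine Nat.card_congr
      { toFun := fun y => ⟨⟨y.1, y.2.1⟩, Finset.mem_erase.2
          ⟨fun h => y.2.2 (congrArg Subtype.val h), Finset.mem_univ _⟩⟩
        invFun := fun u => ⟨u.1.1, u.1.2, fun h =>
          (Finset.mem_erase.1 u.2).1 (Subtype.ext h)⟩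
        left_inv := fun _ => rfl
        right_inv := fun _ => rfl }
  -- arithmetic
  obtain ⟨i, hiv, hi⟩ := (Nat.dvd_prime_pow Nat.prime_two).1 (hrv ▸ Nat.gcd_dvd_right c r)
  have hdvd : 2 ^ a ∣ p ^ 2 ^ v - 1 := by
    have h1 : 2 ^ a ∣ Nat.gcd (p ^ c - 1) (p ^ r - 1) :=
      Nat.dvd_gcd (hYc ▸ hY) (Nat.ordProj_dvd N 2)
    rw [Nat.pow_sub_one_gcd_pow_sub_one] at h1
    refine h1.trans (Nat.pow_sub_one_dvd_pow_sub_one p ?_)
    have hle : Nat.gcd c r ≤ c := Nat.le_of_dvd (Nat.pos_of_ne_zero hc0) (Nat.gcd_dvd_left c r)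
    rw [← hrv] at hi
    rw [hi] at hle ⊢
    refine Nat.pow_dvd_pow 2 ?_
    by_contra hlt
    have : i = v + 1 := by omega
    rw [this, ← hrv] at hle
    omega
  obtain ⟨u, hu⟩ := hodd (2 ^ v)
  have hfac : N = (p ^ 2 ^ v - 1) * (2 * (u + 1)) := by
    rw [hN, hrv, pow_succ, pow_mul, sq, hu, Nat.add_sub_cancel,
      show (2 * u + 1) * (2 * u + 1) = 2 * u * (2 * (u + 1)) + 1 by ring, Nat.add_sub_cancel]
  have hu0 : p ^ 2 ^ v - 1 ≠ 0 := by
    have := Nat.one_lt_pow (pow_ne_zero v two_ne_zero) hp.one_lt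
    omega
  have h1 := (Nat.prime_two.pow_dvd_iff_le_factorization hu0).1 hdvd
  have h2 : a = (p ^ 2 ^ v - 1).factorization 2 + (2 * (u + 1)).factorization 2 := by
    rw [ha, hfac, Nat.factorization_mul hu0 (by omega), Finsupp.add_apply]
  have h3 := Nat.prime_two.factorization_pos_of_dvd (n := 2 * (u + 1)) (by omega) (dvd_mul_right _ _)
  omega

/-- An element of order dividing four commuting with a non-central involution in dimension two. -/
theorem signs (hp2 : p ≠ 2) (hp4 : p % 4 ≠ 1) (hW : Nat.card W = p ^ 2)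
    {Z : Module.End (ZMod p) W} (hZ : Z * Z = 1) (hZ1 : Z ≠ 1) (hZn : Z ≠ -1) :
    ∃ u v : W, Submodule.span (ZMod p) {u, v} = ⊤ ∧ ∀ g : Module.End (ZMod p) W,
      g * g * (g * g) = 1 → g * Z = Z * g → (g u = u ∨ g u = -u) ∧ (g v = v ∨ g v = -v) := by
  classical
  have hp : p.Prime := Fact.out
  have h2 : (2 : ZMod p) ≠ 0 := fun h => hp2 ((Nat.prime_dvd_prime_iff_eq hp Nat.prime_two).1
    ((ZMod.natCast_eq_zero_iff 2 p).1 (by exact_mod_cast h)))
  have hrank : Module.finrank (ZMod p) W = 2 := by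
    have h := Module.natCard_eq_pow_finrank (K := ZMod p) (V := W)
    rw [hW, Nat.card_zmod] at h
    exact (Nat.pow_right_injective hp.two_le h).symm
  obtain ⟨u, hu0, hu⟩ : ∃ u : W, u ≠ 0 ∧ Z u = u := by
    by_contra h
    push Not at h
    refine hZn (LinearMap.ext fun w => ?_)
    rw [LinearMap.neg_apply, Module.End.one_apply]
    refine eq_neg_of_add_eq_zero_left (by_contra fun hne => h _ hne ?_)
    rw [map_add, ← Module.End.mul_apply, hZ, Module.End.one_apply, add_comm]
  obtain ⟨v, hv0, hv⟩ : ∃ v : W, v ≠ 0 ∧ Z v = -v := by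
    by_contra h
    push Not at h
    refine hZ1 (LinearMap.ext fun w => ?_)
    rw [Module.End.one_apply]
    refine sub_eq_zero.1 (by_contra fun hne => h _ hne ?_)
    rw [map_sub, ← Module.End.mul_apply, hZ, Module.End.one_apply, neg_sub]
  have hind : ∀ a b : ZMod p, a • u + b • v = 0 → a = 0 ∧ b = 0 := by
    intro a b h
    have h' := congrArg Z h
    rw [map_add, map_smul, map_smul, hu, hv, map_zero] at h'
    have ha : (2 * a) • u = 0 := by
      have := congrArg₂ (· + ·) h h'
      simp only [smul_neg, add_zero] at this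
      rw [two_mul, add_smul]
      rw [← this]; abel
    have ha0 : a = 0 := (mul_eq_zero.1 ((smul_eq_zero.1 ha).resolve_right hu0)).resolve_left h2
    rw [ha0, zero_smul, zero_add] at h
    exact ⟨ha0, (smul_eq_zero.1 h).resolve_right hv0⟩
  have hli : LinearIndependent (ZMod p) ![u, v] := by
    rw [LinearIndependent.pair_iff]
    exact hind
  have hspan : Submodule.span (ZMod p) {u, v} = ⊤ := by
    have h1 := hli.span_eq_top_of_card_eq_finrank (by rw [Fintype.card_fin, hrank])
    rwa [Matrix.range_cons_cons_empty] at h1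
  have hsq : ∀ a : ZMod p, a * a * (a * a) = 1 → a = 1 ∨ a = -1 := by
    intro a ha
    rcases mul_self_eq_one_iff.1 ha with h | h
    · exact mul_self_eq_one_iff.1 h
    · exact absurd (ZMod.exists_sq_eq_neg_one_iff.1 ⟨a, h.symm⟩) (by
        have := hp.eq_two_or_odd
        omega)
  refine ⟨u, v, hspan, fun g hg4 hgZ => ?_⟩
  have hgu : ∀ (x : W) (s : ZMod p), x ≠ 0 → Z x = s • x → Z (g x) = s • g x := by
    intro x s _ hx
    rw [← Module.End.mul_apply, ← hgZ, Module.End.mul_apply, hx, map_smul]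
  have hmem : ∀ x : W, ∃ a b : ZMod p, a • u + b • v = x := fun x =>
    Submodule.mem_span_pair.1 (hspan ▸ Submodule.mem_top)
  have hfin : ∀ x : W, x ≠ 0 → ∀ a : ZMod p, g x = a • x → g x = x ∨ g x = -x := by
    intro x hx a ha
    have h1 : (g * g * (g * g)) x = (a * a * (a * a)) • x := by
      simp only [Module.End.mul_apply, ha, map_smul, smul_smul, mul_assoc]
    rw [hg4, Module.End.one_apply] at h1
    have h2' : (a * a * (a * a) - 1) • x = 0 := by rw [sub_smul, one_smul, ← h1, sub_self]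
    rcases hsq a (sub_eq_zero.1 ((smul_eq_zero.1 h2').resolve_right hx)) with rfl | rfl
    · exact Or.inl (by rw [ha, one_smul])
    · exact Or.inr (by rw [ha, neg_smul, one_smul])
  constructor
  · obtain ⟨a, b, hab⟩ := hmem (g u)
    have h1 := hgu u 1 hu0 (by rw [one_smul, hu])
    rw [one_smul, ← hab, map_add, map_smul, map_smul, hu, hv] at h1
    have h3 : (0 : ZMod p) • u + (2 * b) • v = 0 := by
      have := sub_eq_zero.2 h1.symm
      rw [zero_smul, zero_add, two_mul, add_smul, ← this, smul_neg]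
      abel
    rw [(mul_eq_zero.1 (hind _ _ h3).2).resolve_left h2, zero_smul, add_zero] at hab
    exact hfin u hu0 a hab.symm
  · obtain ⟨a, b, hab⟩ := hmem (g v)
    have h1 := hgu v (-1) hv0 (by rw [neg_smul, one_smul, hv])
    rw [neg_smul, one_smul, ← hab, map_add, map_smul, map_smul, hu, hv] at h1
    have h3 : (2 * a) • u + (0 : ZMod p) • v = 0 := by
      have := sub_eq_zero.2 h1
      rw [zero_smul, add_zero, two_mul, add_smul, ← this, smul_neg]
      abel
    rw [(mul_eq_zero.1 (hind _ _ h3).1).resolve_left h2, zero_smul, zero_add] at hab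
    exact hfin v hv0 b hab.symm

variable (hconj : ∀ q u : E, q ≠ 1 → u ≠ 1 → IsCyclic (Subgroup.centralizer ({q} : Set E)) →
  IsCyclic (Subgroup.centralizer ({u} : Set E)) → IsConj q u)
include hconj

omit [Finite W] [Fact p.Prime] [Module (ZMod p) W] [AddCommGroup W] in
/-- Then a cyclic centraliser is generated by its element. -/
theorem centralizer_eq_zpowers {q : E} (hq : q ≠ 1)
    (hc : IsCyclic (Subgroup.centralizer ({q} : Set E))) :
    Subgroup.centralizer ({q} : Set E) = Subgroup.zpowers q := by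
  obtain ⟨⟨u, hu⟩, hgen⟩ := hc.exists_generator
  have hle : Subgroup.zpowers q ≤ Subgroup.centralizer ({q} : Set E) := by
    rw [Subgroup.zpowers_le, Subgroup.mem_centralizer_singleton_iff]
  have hCu : Subgroup.centralizer ({q} : Set E) = Subgroup.zpowers u := by
    refine le_antisymm (fun x hx => ?_) (Subgroup.zpowers_le.2 hu)
    obtain ⟨k, hk⟩ := Subgroup.mem_zpowers_iff.1 (hgen ⟨x, hx⟩)
    exact Subgroup.mem_zpowers_iff.2 ⟨k, congrArg Subtype.val hk⟩
  have hu1 : u ≠ 1 := by
    intro h
    have := hle (Subgroup.mem_zpowers q)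
    rw [hCu, h, Subgroup.zpowers_one_eq_bot, Subgroup.mem_bot] at this
    exact hq this
  have hle' : Subgroup.centralizer ({u} : Set E) ≤ Subgroup.centralizer ({q} : Set E) := by
    intro x hx
    rw [Subgroup.mem_centralizer_singleton_iff] at hx ⊢
    have h1 := hle (Subgroup.mem_zpowers q)
    rw [hCu] at h1
    obtain ⟨k, rfl⟩ := Subgroup.mem_zpowers_iff.1 h1
    exact (Commute.zpow_right (show Commute x u from hx) k).eq
  haveI := hc
  have hcu : IsCyclic (Subgroup.centralizer ({u} : Set E)) :=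
    isCyclic_of_injective (Subgroup.inclusion hle') (Subgroup.inclusion_injective hle')
  obtain ⟨c, hcq⟩ := isConj_iff.1 (hconj q u hq hu1 hc hcu)
  have horder : orderOf u = orderOf q := by
    rw [← hcq]; exact orderOf_injective (MulAut.conj c).toMonoidHom (MulAut.conj c).injective q
  refine (Subgroup.eq_of_le_of_card_ge hle ?_).symm
  rw [hCu, Nat.card_zpowers, Nat.card_zpowers, horder]

/-- The case of a primitive prime divisor. -/
theorem false_of_primitive (hρ : Function.Injective ρ) (hp2 : p ≠ 2) (hr : 2 ≤ r)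
    (hW : Nat.card W = p ^ r) (hm : 0 < m) (hcard : Nat.card E = (p ^ r - 1) * m ^ 2)
    (htr : ∀ v w : W, v ≠ 0 → w ≠ 0 → ∃ g : E, ρ g v = w)
    (hnorm : ∀ q : E, (orderOf q).Prime → orderOf q ≠ 2 →
      Subgroup.centralizer ({q} : Set E) = Subgroup.zpowers q →
      (∀ u ∈ Subgroup.zpowers q, u ≠ 1 → IsConj q u) →
      orderOf q % 4 = 1 ∧ ∃ g : ℕ, Nat.card E = orderOf q * g ^ 2)
    {ℓ : ℕ} (hℓ : ℓ.Prime) (hdvd : ℓ ∣ p ^ r - 1)
    (hprim : ∀ k : ℕ, 0 < k → k < r → ¬ ℓ ∣ p ^ k - 1) : False := by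
  classical
  have hp : p.Prime := Fact.out
  haveI : Fact ℓ.Prime := ⟨hℓ⟩
  haveI : Nontrivial W := Finite.one_lt_card_iff_nontrivial.1 (hW ▸ Nat.one_lt_pow (by omega) hp.one_lt)
  have hℓp : ℓ ≠ p := by
    rintro rfl
    have h1 : ℓ ∣ ℓ ^ r := dvd_pow_self ℓ (by omega)
    have h2 := Nat.dvd_sub h1 hdvd
    rw [Nat.sub_sub_self (Nat.one_le_pow _ _ hℓ.pos)] at h2
    exact hℓ.ne_one (Nat.dvd_one.1 h2)
  obtain ⟨q, hq⟩ := exists_prime_orderOf_dvd_card' (G := E) ℓ (hcard ▸ hdvd.mul_right _)
  have hirr := irr_of_primitive ρ hρ hW hℓp hprim hq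
  have hq1 : q ≠ 1 := hirr.ne_one ρ hρ hW hr
  have hC := centralizer_eq_zpowers hconj hq1 (hirr.isCyclic_centralizer ρ hρ)
  have hCu : ∀ u ∈ Subgroup.zpowers q, u ≠ 1 →
      Subgroup.centralizer ({u} : Set E) = Subgroup.centralizer ({q} : Set E) := by
    intro u hu hu1
    have hz : Subgroup.zpowers q = Subgroup.zpowers u :=
      (Subgroup.eq_of_le_of_card_ge (Subgroup.zpowers_le.2 hu) (by
        rw [Nat.card_zpowers, Nat.card_zpowers, hq]
        have h := orderOf_dvd_natCard (⟨u, hu⟩ : Subgroup.zpowers q)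
        rw [Subgroup.orderOf_mk, Nat.card_zpowers, hq] at h
        rcases (Nat.dvd_prime hℓ).1 h with h' | h'
        · exact absurd (orderOf_eq_one_iff.1 h') hu1
        · exact h'.ge)).symm
    ext x
    simp only [Subgroup.mem_centralizer_singleton_iff]
    constructor
    · intro h
      obtain ⟨k, hk⟩ := Subgroup.mem_zpowers_iff.1 (hz ▸ Subgroup.mem_zpowers q)
      exact hk ▸ (Commute.zpow_right (show Commute x u from h) k).eq
    · intro h
      obtain ⟨k, hk⟩ := Subgroup.mem_zpowers_iff.1 hu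
      exact hk ▸ (Commute.zpow_right (show Commute x q from h) k).eq
  have hconjq : ∀ u ∈ Subgroup.zpowers q, u ≠ 1 → IsConj q u := fun u hu hu1 =>
    hconj q u hq1 hu1 (hirr.isCyclic_centralizer ρ hρ)
      (hCu u hu hu1 ▸ hirr.isCyclic_centralizer ρ hρ)
  -- `ℓ - 1 ≤ r`
  have hle : ℓ - 1 ≤ r := by
    have := Fintype.ofFinite (Subgroup.zpowers q)
    let Z : Finset (Module.End (ZMod p) W) :=
      ((Finset.univ : Finset (Subgroup.zpowers q)).erase 1).image
        fun u : Subgroup.zpowers q => ρ (u : E)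
    have hZ : Z.card = ℓ - 1 := by
      rw [Finset.card_image_of_injective _ fun a b h => Subtype.ext (hρ h),
        Finset.card_erase_of_mem (Finset.mem_univ _), Finset.card_univ, ← Nat.card_eq_fintype_card,
        Nat.card_zpowers, hq]
    rw [← hZ]
    refine hirr.card_roots_le hW Z fun T hT => ?_
    obtain ⟨u, hu, rfl⟩ := Finset.mem_image.1 hT
    refine ⟨?_, ?_⟩
    · rw [← map_mul, ← map_mul]
      obtain ⟨k, hk⟩ := Subgroup.mem_zpowers_iff.1 u.2
      rw [← hk, (Commute.zpow_self q k).eq]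
    · obtain ⟨c, hc⟩ := isConj_iff.1 (hconjq u u.2 fun h =>
        (Finset.mem_erase.1 hu).1 (Subtype.ext h))
      have hcu : ρ c * ρ c⁻¹ = 1 := by rw [← map_mul, mul_inv_cancel, map_one]
      have hcu' : ρ c⁻¹ * ρ c = 1 := by rw [← map_mul, inv_mul_cancel, map_one]
      let U : (Module.End (ZMod p) W)ˣ := ⟨ρ c, ρ c⁻¹, hcu, hcu'⟩
      have hconjalg : ∀ f : Polynomial (ZMod p), Polynomial.aeval (ρ c * ρ q * ρ c⁻¹) f =
          ρ c * Polynomial.aeval (ρ q) f * ρ c⁻¹ := by
        intro f
        induction f using Polynomial.induction_on' with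
        | add a b ha hb => rw [map_add, map_add, ha, hb, mul_add, add_mul]
        | monomial n a =>
          rw [Polynomial.aeval_monomial, Polynomial.aeval_monomial,
            show (ρ c * ρ q * ρ c⁻¹) ^ n = ρ c * ρ q ^ n * ρ c⁻¹ from Units.conj_pow U (ρ q) n]
          simp only [← mul_assoc, Algebra.commutes a (ρ c)]
      rw [← hc, map_mul, map_mul, hconjalg, minpoly.aeval, mul_zero, zero_mul]
  -- the exponent
  have hℓr : ℓ = r + 1 := by
    have hord : orderOf (p : ZMod ℓ) = r := by
      refine orderOf_eq_iff (by omega) |>.2 ⟨(Zsigmondy.natCast_eq_one_iff_dvd hp.pos ℓ r).1 hdvd,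
        fun k hk hk0 h => hprim k hk0 hk ((Zsigmondy.natCast_eq_one_iff_dvd hp.pos ℓ k).2 h)⟩
    have h1 := ZMod.orderOf_dvd_card_sub_one (p := ℓ) (a := (p : ZMod ℓ)) fun h =>
      hℓp ((Nat.prime_dvd_prime_iff_eq hℓ hp).1 ((ZMod.natCast_eq_zero_iff p ℓ).1 h))
    rw [hord] at h1
    have := Nat.le_of_dvd (by have := hℓ.two_le; omega) h1
    omega
  obtain ⟨h4, g, hg⟩ := hnorm q (hq.symm ▸ hℓ) (by omega) hC hconjq
  rw [hq] at h4 hg
  have hr4 := eq_four hp hp2 hℓ hℓr h4 hdvd hprim hm (hcard ▸ hg)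
  obtain ⟨t, ht⟩ := exists_neg_one ρ hρ hp2 hW hcard htr (v := 1) (by rw [hr4]; norm_num)
  have htC : t ∈ Subgroup.zpowers q := by
    rw [← hC, Subgroup.mem_centralizer_singleton_iff]
    exact hρ (by rw [map_mul, map_mul, ht, neg_one_mul, mul_neg_one])
  have ht2 : orderOf t ∣ 2 := orderOf_dvd_of_pow_eq_one (hρ (by rw [map_pow, ht, neg_one_sq, map_one]))
  have htℓ : orderOf t ∣ ℓ := by
    have := orderOf_dvd_natCard (⟨t, htC⟩ : Subgroup.zpowers q)
    rwa [Subgroup.orderOf_mk, Nat.card_zpowers, hq] at this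
  have h1 : t = 1 := orderOf_eq_one_iff.1 (Nat.dvd_one.1
    ((Nat.coprime_primes Nat.prime_two hℓ).2 (by omega) ▸ Nat.dvd_gcd ht2 htℓ))
  rw [h1, map_one] at ht
  have h2 : (2 : ZMod p) = 0 := by
    obtain ⟨w, hw⟩ := exists_ne (0 : W)
    have := LinearMap.congr_fun ht w
    rw [LinearMap.neg_apply, Module.End.one_apply] at this
    exact (smul_eq_zero.1 (show (2 : ZMod p) • w = 0 by
      rw [two_smul]; exact eq_neg_iff_add_eq_zero.1 this)).resolve_right hw
  exact hp2 ((Nat.prime_dvd_prime_iff_eq hp Nat.prime_two).1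
    ((ZMod.natCast_eq_zero_iff 2 p).1 (by exact_mod_cast h2)))

/-- The case of a Mersenne prime in dimension two. -/
theorem false_of_mersenne (hρ : Function.Injective ρ) (hp2 : p ≠ 2) (hW : Nat.card W = p ^ 2)
    (hm : 0 < m) (hcard : Nat.card E = (p ^ 2 - 1) * m ^ 2)
    (htr : ∀ v w : W, v ≠ 0 → w ≠ 0 → ∃ g : E, ρ g v = w) {a : ℕ} (ha : p + 1 = 2 ^ a) :
    False := by
  classical
  have hp : p.Prime := Fact.out
  have hp3 : 3 ≤ p := by have := hp.two_le; omega
  haveI : Nontrivial W := Finite.one_lt_card_iff_nontrivial.1 (hW ▸ Nat.one_lt_pow (by omega) hp.one_lt)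
  obtain ⟨a', rfl⟩ : ∃ a', a = a' + 2 := ⟨a - 2, by
    rcases a with _ | _ | a
    · simp at ha; omega
    · simp at ha; omega
    · omega⟩
  have hp4 : p % 4 = 3 := by rw [pow_add] at ha; omega
  letI := rhoAction ρ
  obtain ⟨t, ht⟩ := exists_neg_one ρ hρ hp2 hW hcard htr (v := 0) rfl
  have h2 : (2 : ZMod p) ≠ 0 := fun h => hp2 ((Nat.prime_dvd_prime_iff_eq hp Nat.prime_two).1
    ((ZMod.natCast_eq_zero_iff 2 p).1 (by exact_mod_cast h)))
  haveI : Fact (Nat.Prime 2) := ⟨Nat.prime_two⟩
  set P : Sylow 2 E := default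
  set a2 := (m ^ 2).factorization 2
  have hN : (p ^ 2 - 1).factorization 2 = a' + 3 := by
    obtain ⟨h, hh⟩ : ∃ h, p = 2 * (2 * h + 1) + 1 := ⟨p / 4, by omega⟩
    rw [show p ^ 2 - 1 = 2 ^ (a' + 3) * (2 * h + 1) by
      rw [show (2 : ℕ) ^ (a' + 3) = 2 * 2 ^ (a' + 2) by ring, ← ha, hh,
        show (2 * (2 * h + 1) + 1) ^ 2 = 2 * (2 * (2 * h + 1) + 1 + 1) * (2 * h + 1) + 1 by ring,
        Nat.add_sub_cancel],
      Nat.factorization_mul (by positivity) (by omega), Finsupp.add_apply,
      Nat.prime_two.factorization_pow, Finsupp.single_eq_same,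
      Nat.factorization_eq_zero_of_not_dvd (by omega), add_zero]
  have hPcard : Nat.card (P : Subgroup E) = 2 ^ (a' + 3 + a2) := by
    rw [P.card_eq_multiplicity, hcard, Nat.factorization_mul ?_ (pow_ne_zero 2 hm.ne'),
      Finsupp.add_apply, hN]
    have := Nat.one_lt_pow two_ne_zero hp.one_lt
    omega
  -- squares in the Sylow group
  have hns : ¬ IsSquare (-1 : ZMod p) := fun h => (ZMod.exists_sq_eq_neg_one_iff.1 h) hp4
  have hsq4 : ∀ g : E, g ^ 4 = 1 → g ^ 2 = 1 ∨ g ^ 2 = t := by
    intro g hg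
    by_contra hne
    push Not at hne
    have h4 : ρ g * ρ g * (ρ g * ρ g) = 1 := by
      rw [← map_mul, ← map_mul, ← map_one ρ, ← hg]
      congr 1
      simp [pow_succ, mul_assoc]
    obtain ⟨u, v, hspan, hsg⟩ := signs hp2 (by omega) hW (Z := ρ g * ρ g) h4
      (fun h => hne.1 (hρ (by rw [pow_two, map_mul, h, map_one])))
      (fun h => hne.2 (hρ (by rw [pow_two, map_mul, h, ht])))
    obtain ⟨hu, hv⟩ := hsg (ρ g) h4 (by rw [mul_assoc])
    refine hne.1 (hρ ?_)
    rw [pow_two, map_mul, map_one]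
    refine LinearMap.ext_on hspan ?_
    rintro x (rfl | rfl)
    · rcases hu with h | h <;> simp [h]
    · rcases hv with h | h <;> simp [h]
  -- an element of order four
  have hirr : ∀ g : E, g ^ 2 = t → Irr (ρ g) := by
    intro g hg U hU
    by_contra hne
    push Not at hne
    have hrank : Module.finrank (ZMod p) W = 2 := by
      have h := Module.natCard_eq_pow_finrank (K := ZMod p) (V := W)
      rw [hW, Nat.card_zmod] at h
      exact (Nat.pow_right_injective hp.two_le h).symm
    have h1 : Module.finrank (ZMod p) U = 1 := by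
      have h2 := Submodule.finrank_lt hne.2
      have h3 : Module.finrank (ZMod p) U ≠ 0 := fun h => hne.1 (Submodule.finrank_eq_zero.1 h)
      omega
    obtain ⟨⟨u, hu⟩, hu0, hspan⟩ := finrank_eq_one_iff'.1 h1
    obtain ⟨c, hc⟩ := hspan ⟨_, hU u hu⟩
    have hc' : ρ g u = c • u := (congrArg Subtype.val hc).symm
    have h4 : ρ t u = (c * c) • u := by
      rw [← hg, pow_two, map_mul, Module.End.mul_apply, hc', map_smul, hc', smul_smul]
    rw [ht, LinearMap.neg_apply, Module.End.one_apply] at h4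
    have h5 : (c * c + 1) • u = 0 := by rw [add_smul, one_smul, ← h4, neg_add_cancel]
    exact hns ⟨c, (eq_neg_of_add_eq_zero_left ((smul_eq_zero.1 h5).resolve_right
      fun h => hu0 (Subtype.ext h))).symm⟩
  have hcen : ∀ g : E, g ^ 2 = t →
      Subgroup.centralizer ({g} : Set E) = Subgroup.zpowers g := fun g hg =>
    centralizer_eq_zpowers hconj ((hirr g hg).ne_one ρ hρ hW le_rfl)
      ((hirr g hg).isCyclic_centralizer ρ hρ)
  have ht1 : t ≠ 1 := by
    rintro rfl
    rw [map_one] at ht
    obtain ⟨w, hw⟩ := exists_ne (0 : W)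
    have := LinearMap.congr_fun ht w
    rw [LinearMap.neg_apply, Module.End.one_apply] at this
    exact h2 ((smul_eq_zero.1 (show (2 : ZMod p) • w = 0 by
      rw [two_smul]; exact eq_neg_iff_add_eq_zero.1 this)).resolve_right hw)
  have htt : t * t = 1 := hρ (by rw [map_mul, ht, map_one, neg_one_mul, neg_neg])
  have htc : ∀ g : E, t * g = g * t := fun g => hρ (by rw [map_mul, map_mul, ht, neg_one_mul, mul_neg_one])
  have hord4 : ∀ g : E, g ^ 2 = t → orderOf g = 4 := by
    intro g hg
    exact orderOf_eq_prime_pow (p := 2) (n := 1) (by rw [pow_one, hg]; exact ht1)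
      (by rw [show 2 ^ (1 + 1) = 2 * 2 from rfl, pow_mul, hg, pow_two, htt])
  -- exponent four
  have hexp : ∀ g ∈ (P : Subgroup E), g ^ 2 = 1 ∨ g ^ 2 = t := by
    intro g hg
    obtain ⟨k, hk⟩ := P.2 ⟨g, hg⟩
    have hk' : g ^ 2 ^ k = 1 := congrArg Subtype.val hk
    by_contra hne
    have hex : ∃ k, (g ^ 2 ^ k) ^ 4 = 1 := ⟨k, by rw [hk', one_pow]⟩
    let k0 := Nat.find hex
    have hk0 : (g ^ 2 ^ k0) ^ 4 = 1 := Nat.find_spec hex
    rcases Nat.eq_zero_or_pos k0 with h0 | h0
    · rw [h0, pow_zero, pow_one] at hk0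
      exact hne (hsq4 g hk0)
    · obtain ⟨k1, hk1⟩ : ∃ k1, k0 = k1 + 1 := ⟨k0 - 1, by omega⟩
      have hmin := Nat.find_min hex (show k1 < k0 by omega)
      rw [hk1] at hk0
      set y := g ^ 2 ^ k1 with hy
      rw [pow_succ 2 k1, pow_mul, ← hy] at hk0
      rcases hsq4 (y ^ 2) hk0 with h | h
      · exact hmin (by rw [show (4 : ℕ) = 2 * 2 from rfl, pow_mul, h])
      · -- `y` has order eight in a centraliser of order four
        have h8 : y ∈ Subgroup.centralizer ({y ^ 2} : Set E) := by
          rw [Subgroup.mem_centralizer_singleton_iff]; exact (Commute.self_pow y 2).eq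
        rw [hcen _ h] at h8
        have h9 := orderOf_dvd_natCard (⟨y, h8⟩ : Subgroup.zpowers (y ^ 2))
        rw [Subgroup.orderOf_mk, Nat.card_zpowers, hord4 _ h] at h9
        exact hmin (orderOf_dvd_iff_pow_eq_one.1 h9)
  obtain ⟨g, hgP, hg⟩ : ∃ g ∈ (P : Subgroup E), g ^ 2 = t := by
    by_contra hno
    push Not at hno
    have h1 : ∀ g ∈ (P : Subgroup E), g * g = 1 := fun g hg => by
      rw [← pow_two]; exact (hexp g hg).resolve_right (hno g hg)
    have hcomm : ∀ x ∈ (P : Subgroup E), ∀ y ∈ (P : Subgroup E), x * y = y * x := fun x hx y hy => by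
      calc x * y = (x * y)⁻¹ := eq_inv_of_mul_eq_one_left (h1 _ (mul_mem hx hy))
        _ = y⁻¹ * x⁻¹ := mul_inv_rev x y
        _ = y * x := by
          rw [inv_eq_of_mul_eq_one_right (h1 y hy), inv_eq_of_mul_eq_one_right (h1 x hx)]
    obtain ⟨z, hz, hz1, hzt⟩ : ∃ z ∈ (P : Subgroup E), z ≠ 1 ∧ z ≠ t := by
      by_contra h
      push Not at h
      have hsub : ((P : Subgroup E) : Set E) ⊆ {1, t} := fun x hx => by
        by_cases hx1 : x = 1
        · exact Or.inl hx1
        · exact Or.inr (h x hx hx1)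
      have hc := Set.ncard_le_ncard hsub (Set.toFinite _)
      rw [← Nat.card_coe_set_eq] at hc
      change Nat.card (P : Subgroup E) ≤ _ at hc
      rw [hPcard, Set.ncard_pair (Ne.symm ht1)] at hc
      have : 2 ^ 3 ≤ 2 ^ (a' + 3 + a2) := Nat.pow_le_pow_right two_pos (by omega)
      omega
    obtain ⟨u, v, hspan, hsg⟩ := signs hp2 (by omega) hW (Z := ρ z)
      (by rw [← map_mul, h1 z hz, map_one]) (fun h => hz1 (hρ (by rw [h, map_one])))
      (fun h => hzt (hρ (by rw [h, ht])))
    let f : ↥(P : Subgroup E) → Bool × Bool := fun x =>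
      (decide (ρ x.1 u = u), decide (ρ x.1 v = v))
    have hf : Function.Injective f := by
      intro x y hxy
      have hx := hsg (ρ x.1) (by rw [← map_mul, h1 x x.2, map_one, one_mul])
        (by rw [← map_mul, ← map_mul, hcomm x x.2 z hz])
      have hy := hsg (ρ y.1) (by rw [← map_mul, h1 y y.2, map_one, one_mul])
        (by rw [← map_mul, ← map_mul, hcomm y y.2 z hz])
      simp only [f, Prod.mk.injEq, decide_eq_decide] at hxy
      refine Subtype.ext (hρ (LinearMap.ext_on hspan ?_))
      rintro w (rfl | rfl)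
      · rcases hx.1 with h | h
        · rw [h, (hxy.1.1 h)]
        · rcases hy.1 with h' | h'
          · rw [hxy.1.2 h', h']
          · rw [h, h']
      · rcases hx.2 with h | h
        · rw [h, (hxy.2.1 h)]
        · rcases hy.2 with h' | h'
          · rw [hxy.2.2 h', h']
          · rw [h, h']
    have h4 := Nat.card_le_card_of_injective f hf
    rw [hPcard] at h4
    simp at h4
    have : 2 ^ 3 ≤ 2 ^ (a' + 3 + a2) := Nat.pow_le_pow_right two_pos (by omega)
    omega
  -- commutators lie in `⟨t⟩`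
  have hcom : ∀ x ∈ (P : Subgroup E), x * g * x⁻¹ = g ∨ x * g * x⁻¹ = g * t := by
    intro x hx
    -- `x g x⁻¹ = x² (x⁻¹ g)² g⁻¹`
    have hident : x * g * x⁻¹ = x * x * ((x⁻¹ * g) * (x⁻¹ * g)) * g⁻¹ := by
      simp [mul_assoc]
    have hgi : g⁻¹ = g * t := by
      refine inv_eq_of_mul_eq_one_right ?_
      rw [← mul_assoc, ← pow_two, hg, htt]
    rw [hident, hgi]
    rcases hexp x hx with h1 | h1 <;> rcases hexp (x⁻¹ * g) (mul_mem (inv_mem hx) hgP) with h3 | h3 <;>
      rw [pow_two] at h1 h3 <;> rw [h1, h3]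
    · exact Or.inr (by simp)
    · exact Or.inl (by rw [one_mul, ← mul_assoc, htc, mul_assoc, htt, mul_one])
    · exact Or.inl (by rw [mul_one, ← mul_assoc, htc, mul_assoc, htt, mul_one])
    · exact Or.inr (by rw [htt, one_mul])
  have hcg : Nat.card (P : Subgroup E) ≤ 8 := by
    let f : ↥(P : Subgroup E) → Bool := fun x => decide (x.1 * g * x.1⁻¹ = g)
    have := Fintype.ofFinite (P : Subgroup E)
    have hfib : ∀ b : Bool, (Finset.univ.filter fun x => f x = b).card ≤ 4 := by
      intro b
      rcases (Finset.univ.filter fun x => f x = b).eq_empty_or_nonempty with h | ⟨x0, hx0⟩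
      · simp [h]
      · have h0 := (Finset.mem_filter.1 hx0).2
        have := Fintype.ofFinite (Subgroup.zpowers g)
        calc (Finset.univ.filter fun x => f x = b).card
            ≤ (Finset.univ : Finset (Subgroup.zpowers g)).card := by
              refine Finset.card_le_card_of_injOn (fun x => if h : x0.1⁻¹ * x.1 ∈ Subgroup.zpowers g
                then ⟨_, h⟩ else 1) (fun _ _ => Finset.mem_univ _) fun x hx y hy hxy => ?_
              have hmem : ∀ x ∈ Finset.univ.filter (fun x => f x = b),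
                  x0.1⁻¹ * x.1 ∈ Subgroup.zpowers g := by
                intro x hx
                rw [← hcen g hg, Subgroup.mem_centralizer_singleton_iff]
                have h1 : x.1 * g * x.1⁻¹ = x0.1 * g * x0.1⁻¹ := by
                  have h2 : f x = f x0 := ((Finset.mem_filter.1 hx).2).trans h0.symm
                  simp only [f, decide_eq_decide] at h2
                  rcases hcom x x.2 with e | e
                  · rw [e, h2.1 e]
                  · rcases hcom x0 x0.2 with e' | e'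
                    · rw [h2.2 e', e']
                    · rw [e, e']
                have h3 := congrArg (fun y => x0.1⁻¹ * y * x.1) h1
                simpa [mul_assoc] using h3
              simp only [dif_pos (hmem x hx), dif_pos (hmem y hy)] at hxy
              exact Subtype.ext (mul_left_cancel (congrArg Subtype.val hxy :))
          _ = 4 := by rw [Finset.card_univ, ← Nat.card_eq_fintype_card, Nat.card_zpowers, hord4 g hg]
    rw [Nat.card_eq_fintype_card, ← Finset.card_univ,
      Finset.card_eq_sum_card_fiberwise (f := f) (t := Finset.univ) fun _ _ => Finset.mem_univ _]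
    simp only [Fintype.sum_bool]
    have h1 := hfib true
    have h2 := hfib false
    omega
  rw [hPcard] at hcg
  have hexp3 : a' + 3 + a2 ≤ 3 := (Nat.pow_le_pow_iff_right (le_refl 2)).1 hcg
  have hp3' : p = 3 := by
    rw [show a' = 0 by omega] at ha
    omega
  -- the stabilisers are trivial
  obtain ⟨w, hw⟩ := exists_ne (0 : W)
  have hstab := card_stabilizer_mul ρ htr hw
  rw [hW, hcard] at hstab
  have hm2 : Nat.card (MulAction.stabilizer E w) = m ^ 2 :=
    Nat.eq_of_mul_eq_mul_right (show 0 < p ^ 2 - 1 by rw [hp3']; norm_num) (by rw [hstab]; ring)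
  obtain ⟨w', hw'⟩ : ∃ w', w' ∉ Submodule.span (ZMod p) ({w} : Set W) := by
    by_contra h
    push Not at h
    have h1 := finrank_span_singleton (K := ZMod p) hw
    rw [(Submodule.eq_top_iff'.2 h), finrank_top] at h1
    have h2 := Module.natCard_eq_pow_finrank (K := ZMod p) (V := W)
    rw [hW, Nat.card_zmod, h1] at h2
    exact absurd (Nat.pow_right_injective hp.two_le h2) (by norm_num)
  have hle9 : m ^ 2 ≤ p ^ 2 - 1 := by
    rw [← hm2, ← hW]
    have := Fintype.ofFinite W
    have := Fintype.ofFinite (MulAction.stabilizer E w)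
    rw [Nat.card_eq_fintype_card, Nat.card_eq_fintype_card,
      ← Finset.card_univ, ← Finset.card_univ (α := W), ← Finset.card_erase_of_mem (Finset.mem_univ (0 : W))]
    refine Finset.card_le_card_of_injOn (fun x => ρ (x : E) w') (fun x _ => Finset.mem_erase.2
      ⟨fun h => hw' ?_, Finset.mem_univ _⟩) fun x _ y _ hxy => ?_
    · rw [← inv_smul_smul (x : E) w', show (x : E) • w' = 0 from h]
      rw [show (x : E)⁻¹ • (0 : W) = 0 from map_zero (ρ (x : E)⁻¹)]
      exact Submodule.zero_mem _
    · have hli : Submodule.span (ZMod p) ({w, w'} : Set W) = ⊤ := by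
        refine Submodule.eq_top_of_finrank_eq (le_antisymm (Submodule.finrank_le _) ?_)
        have h2 := Module.natCard_eq_pow_finrank (K := ZMod p) (V := W)
        rw [hW, Nat.card_zmod] at h2
        rw [← Nat.pow_right_injective hp.two_le h2]
        have hlt : Submodule.span (ZMod p) ({w} : Set W) < Submodule.span (ZMod p) ({w, w'} : Set W) :=
          lt_of_le_of_ne (Submodule.span_mono (by simp)) fun h => hw'
            (h ▸ Submodule.subset_span (by simp))
        have h3 := Submodule.finrank_lt_finrank_of_lt hlt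
        rw [finrank_span_singleton hw] at h3
        omega
      refine Subtype.ext (hρ (LinearMap.ext_on hli ?_))
      rintro z (rfl | rfl)
      · exact x.2.trans y.2.symm
      · exact hxy
  have hm1 : m = 1 := by
    rw [hp3'] at hle9
    norm_num at hle9
    have : m ≤ 2 := by nlinarith
    rcases (show m = 1 ∨ m = 2 by omega) with h12 | h12
    · exact h12
    · have h22 : a2 = 2 := by
        simp only [a2, h12]
        rw [Nat.prime_two.factorization_pow, Finsupp.single_eq_same]
      omega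
  subst hm1
  have hE8 : Nat.card E = 8 := by rw [hcard, hp3']; norm_num
  -- all of `E` lies in the Sylow group
  have hPtop : ∀ x : E, x ∈ (P : Subgroup E) := by
    intro x
    have : (P : Subgroup E) = ⊤ := Subgroup.eq_top_of_card_eq _ (by
      rw [hPcard, hE8, show a' + 3 + a2 = 3 by omega]; norm_num)
    exact this ▸ Subgroup.mem_top x
  -- every element outside `⟨g⟩` is conjugate to `g`
  obtain ⟨h, hh⟩ : ∃ h : E, h ∉ Subgroup.zpowers g := by
    by_contra hno
    push Not at hno
    have := Nat.card_le_card_of_injective (fun x : E => (⟨x, hno x⟩ : Subgroup.zpowers g))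
      fun x y h => congrArg Subtype.val h
    rw [hE8, Nat.card_zpowers, hord4 g hg] at this
    omega
  rcases hexp h (hPtop h) with h1 | h1
  · -- an involution with a fixed vector
    have hht : h ≠ t := fun e => hh (e ▸ hg ▸ Subgroup.npow_mem_zpowers g 2)
    have hh1 : h ≠ 1 := fun e => hh (e ▸ one_mem _)
    obtain ⟨u, hu0, hu⟩ : ∃ u : W, u ≠ 0 ∧ ρ h u = u := by
      by_contra hno
      push Not at hno
      refine hht (hρ ?_)
      rw [ht]
      refine LinearMap.ext fun x => ?_
      rw [LinearMap.neg_apply, Module.End.one_apply]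
      refine eq_neg_of_add_eq_zero_left (by_contra fun hne => hno _ hne ?_)
      rw [map_add, ← Module.End.mul_apply, ← map_mul, ← pow_two, h1, map_one, Module.End.one_apply,
        add_comm]
    have hs := card_stabilizer_mul ρ htr hu0
    rw [hW, hE8, show p ^ 2 - 1 = 8 by rw [hp3']; norm_num] at hs
    have hbot : MulAction.stabilizer E u = ⊥ := by
      refine Subgroup.eq_bot_of_card_eq _ ?_
      omega
    exact hh1 (Subgroup.mem_bot.1 (hbot ▸ (hu : h ∈ MulAction.stabilizer E u)))
  · obtain ⟨c, hc⟩ := isConj_iff.1 (hconj g h ((hirr g hg).ne_one ρ hρ hW le_rfl)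
      ((hirr h h1).ne_one ρ hρ hW le_rfl)
      ((hirr g hg).isCyclic_centralizer ρ hρ) ((hirr h h1).isCyclic_centralizer ρ hρ))
    refine hh ?_
    rcases hcom c (hPtop c) with e | e <;> rw [← hc, e]
    · exact Subgroup.mem_zpowers g
    · exact mul_mem (Subgroup.mem_zpowers g) (hg ▸ Subgroup.npow_mem_zpowers g 2)

end CfsgLib.KThree
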